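/-!
Data for the centraliser of a fixed-point-free element of order three of the automorphism group of the
Leech lattice and its map onto the sporadic Suzuki group.
-/

set_option autoImplicit false
set_option maxRecDepth 100000

namespace CfsgLib.SuzCo0

/-- The element of order three. -/
def xMat : List (List Int) := [
    [-4, 0, -2, 2, 2, 0, 0, -2, 0, 0, 0, 0, 0, 2, -2, 0, -2, -2, -2, -2, 2, 2, 0, 0],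
    [0, -4, -2, 2, -2, 0, 0, 2, 0, 0, 0, 0, 0, 2, 2, 0, 2, 2, -2, 2, 2, 2, 0, 0],
    [2, 2, -4, 0, 0, -2, -2, 0, -2, 2, -2, 2, -2, 0, 0, 2, 0, 0, 0, 0, 0, 0, 2, 2],
    [-2, -2, 0, -4, 0, -2, 2, 0, -2, -2, -2, -2, -2, 0, 0, 2, 0, 0, 0, 0, 0, 0, -2, 2],
    [-2, 2, 0, 0, -4, 2, 2, 0, -2, 2, 2, -2, -2, 0, 0, 2, 0, 0, 0, 0, 0, 0, 2, -2],
    [0, 0, 2, 2, -2, -4, 0, 2, 0, 0, 0, 0, 0, -2, 2, 0, -2, -2, -2, -2, 2, -2, 0, 0],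
    [0, 0, 2, -2, -2, 0, -4, -2, 0, 0, 0, 0, 0, -2, -2, 0, -2, 2, -2, 2, 2, 2, 0, 0],
    [2, -2, 0, 0, 0, -2, 2, -4, 2, 2, 2, -2, -2, 0, 0, -2, 0, 0, 0, 0, 0, 0, 2, 2],
    [0, 0, 2, 2, 2, 0, 0, -2, -4, 0, 0, 0, 0, 2, 2, 0, -2, 2, 2, 2, 2, -2, 0, 0],
    [0, 0, -2, 2, -2, 0, 0, -2, 0, -4, 0, 0, 0, -2, -2, 0, 2, 2, 2, -2, 2, -2, 0, 0],
    [0, 0, 2, 2, -2, 0, 0, -2, 0, 0, -4, 0, 0, 2, -2, 0, 2, -2, -2, 2, -2, -2, 0, 0],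
    [0, 0, -2, 2, 2, 0, 0, 2, 0, 0, 0, -4, 0, -2, -2, 0, -2, 2, -2, 2, -2, -2, 0, 0],
    [0, 0, 2, 2, 2, 0, 0, 2, 0, 0, 0, 0, -4, -2, -2, 0, 2, -2, 2, 2, 2, 2, 0, 0],
    [-2, -2, 0, 0, 0, 2, 2, 0, -2, 2, -2, 2, 2, -4, 0, -2, 0, 0, 0, 0, 0, 0, 2, 2],
    [2, -2, 0, 0, 0, -2, 2, 0, -2, 2, 2, 2, 2, 0, -4, 2, 0, 0, 0, 0, 0, 0, -2, -2],
    [0, 0, -2, -2, -2, 0, 0, 2, 0, 0, 0, 0, 0, 2, -2, -4, -2, -2, 2, 2, 2, -2, 0, 0],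
    [2, -2, 0, 0, 0, 2, 2, 0, 2, -2, -2, 2, -2, 0, 0, 2, -4, 0, 0, 0, 0, 0, 2, -2],
    [2, -2, 0, 0, 0, 2, -2, 0, -2, -2, 2, -2, 2, 0, 0, 2, 0, -4, 0, 0, 0, 0, 2, 2],
    [2, 2, 0, 0, 0, 2, 2, 0, -2, -2, 2, 2, -2, 0, 0, -2, 0, 0, -4, 0, 0, 0, -2, 2],
    [2, -2, 0, 0, 0, 2, -2, 0, -2, 2, -2, -2, -2, 0, 0, -2, 0, 0, 0, -4, 0, 0, -2, -2],
    [-2, -2, 0, 0, 0, -2, -2, 0, -2, -2, 2, 2, -2, 0, 0, -2, 0, 0, 0, 0, -4, 0, 2, -2],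
    [-2, -2, 0, 0, 0, 2, -2, 0, 2, 2, 2, 2, -2, 0, 0, 2, 0, 0, 0, 0, 0, -4, -2, 2],
    [0, 0, -2, 2, -2, 0, 0, -2, 0, 0, 0, 0, 0, -2, 2, 0, -2, -2, 2, 2, -2, 2, -4, 0],
    [0, 0, -2, -2, 2, 0, 0, -2, 0, 0, 0, 0, 0, -2, 2, 0, 2, -2, -2, 2, 2, -2, 0, -4]]

/-- Lifts of the seven generators. -/
def genMats : List (List (List Int)) := [[
    [3, 1, 1, -3, 1, -1, -1, 1, 1, -1, 1, 1, -1, -1, 1, -1, 1, 3, 3, 1, -3, -1, -1, -1],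
    [1, 3, 3, -1, -1, 1, 1, -1, -1, 1, -1, -1, 1, -3, -1, 1, -1, -3, 1, -1, -1, -3, 1, 1],
    [-1, -3, 1, -3, 1, -1, -1, 1, 1, 3, 1, -3, -1, -1, -3, -1, 1, -1, -1, 1, 1, -1, -1, -1],
    [3, 1, 1, 1, 1, -1, -1, -3, -3, 3, 1, 1, -1, -1, 1, -1, 1, -1, -1, 1, 1, 3, -1, -1],
    [1, -1, -1, -1, -1, 5, 1, -1, -1, 1, -1, -1, 1, 1, -1, 1, 3, 1, 1, 3, -1, 1, 1, 1],
    [3, -3, 1, 1, 1, -1, -1, 1, 1, -1, -3, 1, 3, -1, 1, -1, 1, -1, -1, 1, 1, -1, -1, 3],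
    [1, -1, -1, -1, -1, 1, 1, 3, -1, 1, -1, 3, -3, 1, -1, 1, -1, -3, 1, -1, -1, 1, -3, 1],
    [-1, 1, -3, 1, 1, -1, -1, 1, -3, -1, -3, -3, -1, -1, 1, -1, 1, -1, 3, 1, 1, -1, -1, -1],
    [-1, 1, 1, 1, 1, -1, 3, 1, 1, -1, 1, -3, -1, -1, 1, -1, 1, -1, -1, 1, -3, 3, -1, 3],
    [1, -1, -1, -1, -1, 1, 1, -1, 3, 1, -1, -1, 1, 1, 3, -3, -1, -3, 1, -1, -1, 1, 1, -3],
    [1, -1, -1, -1, -1, 1, 1, 3, -1, 1, 3, -1, 1, -3, 3, 1, -1, 1, 1, -1, 3, 1, 1, 1],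
    [-1, 1, 1, 1, 1, -1, -1, 1, 1, 3, 1, 1, -1, 3, 1, -1, 1, -1, 3, 1, 1, -1, 3, 3],
    [1, -1, -1, -1, -1, -3, 1, -1, -1, 1, -1, -1, 1, 1, -1, 1, -5, 1, 1, 3, -1, 1, 1, 1],
    [3, 1, 1, 1, -3, -1, -1, 1, 1, -1, 1, -3, -1, 3, 1, 3, 1, -1, -1, 1, 1, -1, -1, -1],
    [-1, 1, 1, -3, 1, -1, -1, 1, 1, -1, -3, 1, -1, -1, 1, 3, 1, -1, -1, 1, 1, 3, 3, -1],
    [1, -1, -1, 3, -1, 1, -3, -1, 3, 1, -1, -1, -3, -3, -1, 1, -1, 1, 1, -1, -1, 1, 1, 1],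
    [-1, 1, 1, 1, -3, -1, -1, 1, 1, -1, 1, 1, 3, -1, -3, -1, 1, -1, 3, 1, 1, 3, -1, -1],
    [-1, 1, 1, 1, -3, -1, 3, 1, 1, 3, -3, 1, -1, -1, 1, -1, 1, 3, -1, 1, 1, -1, -1, -1],
    [-3, -1, 3, -1, -1, 1, -3, -1, -1, 1, -1, -1, 1, 1, 3, 1, -1, 1, 1, -1, -1, 1, -3, 1],
    [-1, 1, -3, -3, -3, -1, -1, -3, 1, -1, 1, 1, -1, -1, 1, -1, 1, -1, -1, 1, 1, -1, -1, 3],
    [1, 3, -1, -1, 3, 1, 1, -1, 3, 1, -1, -1, 1, 1, -1, 1, -1, 1, 1, -1, 3, 1, -3, 1],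
    [1, 3, -1, -1, -1, 1, -3, 3, -1, 1, -1, -1, 1, 1, -1, -3, -1, 1, -3, -1, -1, 1, 1, 1],
    [1, -1, 3, -1, -1, 1, 1, -1, -1, -3, -1, -1, -3, 1, -1, -3, -1, 1, 1, -1, 3, 1, 1, 1],
    [1, -1, -1, -1, -1, -3, 1, -1, -1, 1, -1, -1, 1, 1, -1, 1, 3, 1, 1, -5, -1, 1, 1, 1]],
  [
    [-1, -3, -1, -3, 1, -1, 1, 1, 1, 1, 1, 1, -3, -3, 1, 3, -1, 1, -1, 1, 1, -1, 1, -1],
    [1, -1, 1, -1, -1, 1, -1, 3, 3, -1, -1, -1, -1, -1, -1, 1, 1, -1, 5, -1, -1, 1, -1, 1],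
    [1, -1, 1, -1, -1, 1, -1, 3, -5, -1, -1, -1, -1, -1, -1, 1, 1, -1, -3, -1, -1, 1, -1, 1],
    [3, 1, 3, -3, 1, 3, -3, 1, 1, 1, 1, 1, 1, 1, 1, -1, -1, 1, -1, 1, 1, -1, 1, -1],
    [1, -1, 1, -1, -1, -3, -1, -1, -1, -1, -1, -1, 3, -1, -1, 1, -3, -1, 1, -1, 3, 1, -1, -3],
    [1, -1, 1, -1, 3, -3, -1, -1, -1, -1, -1, -1, -1, 3, -1, 1, 1, 3, 1, 3, -1, 1, -1, 1],
    [1, -1, 1, 3, 3, 1, -1, -1, -1, -1, 3, 3, -1, -1, -1, 1, 1, -1, 1, -1, -1, 1, -1, -3],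
    [1, -1, -3, -1, -1, 1, -1, -1, -1, -1, -1, 3, -1, 3, 3, 1, 1, -1, 1, -1, 3, 1, -1, 1],
    [-1, -3, -1, 1, 1, 3, 1, 1, 1, -3, 1, -3, 1, 1, 1, -1, -1, 1, -1, 1, 1, -1, -3, -1],
    [-1, 1, -1, -3, 1, -1, 1, 1, 1, -3, 1, 1, 1, 1, 1, -1, -1, -3, -1, 1, -3, 3, 1, -1],
    [-3, -1, 1, -1, -1, 1, -1, -1, -1, -1, -1, 3, -1, -1, -1, -3, -3, 3, 1, -1, -1, 1, -1, 1],
    [1, -1, 1, -1, -1, 1, -1, -5, 3, -1, -1, -1, -1, -1, -1, 1, 1, -1, -3, -1, -1, 1, -1, 1],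
    [1, 3, 1, -1, -1, 1, 3, -1, -1, -1, -1, -1, -1, -1, 3, 1, 1, 3, 1, -1, -1, 1, -1, -3],
    [1, -1, 1, -1, -1, -3, -1, -1, -1, -1, 3, -1, -1, -1, 3, -3, 1, -1, 1, -1, -1, -3, -1, 1],
    [1, -1, 1, -1, 3, 1, 3, -1, -1, -1, -1, -1, -1, -1, -1, -3, 1, -1, 1, -1, 3, 1, 3, 1],
    [-1, 1, -1, 1, 1, -1, -3, 1, 1, 1, 1, -3, -3, 1, 1, -1, -1, 1, -1, -3, 1, 3, 1, -1],
    [3, 1, -1, 1, 1, -1, 1, 1, 1, 1, 1, 1, 1, -3, 1, -1, -1, 1, -1, 1, 1, 3, -3, 3],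
    [-1, 1, 3, 1, 1, -1, 1, 1, 1, 1, -3, 1, -3, 1, 1, -1, -1, -3, -1, 1, 1, -1, -3, -1],
    [-1, -3, 3, 1, -3, -1, 1, 1, 1, 1, 1, 1, 1, 1, 1, -1, 3, 1, -1, 1, 1, 3, 1, -1],
    [-1, 1, 3, 1, 1, -1, 1, 1, 1, -3, 1, 1, 1, 1, 1, 3, -1, 1, -1, -3, 1, -1, 1, 3],
    [1, -1, 1, -1, -1, 1, 3, -1, -1, 3, 3, -1, -1, 3, -1, 1, -3, -1, 1, -1, -1, 1, -1, 1],
    [3, 1, -1, 1, -3, -1, 1, 1, 1, -3, 1, 1, -3, 1, -3, -1, -1, 1, -1, 1, 1, -1, 1, -1],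
    [-1, 1, -1, -3, 1, -1, 1, 1, 1, 1, 1, 1, 1, 1, -3, -1, 3, 1, -1, -3, 1, -1, -3, -1],
    [3, -3, -1, 1, 1, -1, 1, 1, 1, 1, -3, 1, 1, 1, 1, -1, -1, 1, -1, -3, -3, -1, 1, -1]],
  [
    [0, -2, 0, -2, -2, -4, 0, 0, 2, 0, 2, -2, 0, 2, 0, 0, -2, 2, 0, 0, 2, 0, -2, -2],
    [2, 0, 2, 0, 0, 2, 2, 2, 0, 2, 0, 0, -2, 4, 2, 2, 0, 0, 2, -2, 0, -2, 0, 0],
    [-2, 0, 2, 0, 0, -2, -2, 2, 0, 2, -4, 0, -2, 0, 2, 2, 0, 0, -2, 2, 0, 2, 0, 0],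
    [2, 0, 2, 0, 0, -2, 2, -2, 0, 2, 0, 0, 2, 0, 2, -2, 0, 0, 2, 2, 0, 2, 0, 4],
    [0, 2, 0, -2, 2, 0, 0, 0, -2, 0, 2, -2, 0, 2, 0, 0, 2, 2, 0, 4, -2, 0, 2, -2],
    [2, 0, 2, 0, -4, 2, -2, 2, 0, -2, 0, 0, 2, 0, 2, -2, 0, 0, -2, 2, 0, -2, 0, 0],
    [2, -4, 2, 0, 0, 2, 2, -2, 0, -2, 0, 0, -2, 0, -2, 2, 0, 0, -2, 2, 0, 2, 0, 0],
    [2, 0, -2, 4, 0, -2, 2, 2, 0, 2, 0, 0, -2, 0, -2, -2, 0, 0, -2, 2, 0, -2, 0, 0],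
    [0, 2, 0, 2, 2, 0, 0, 0, 2, -4, -2, -2, 0, 2, 0, 0, -2, 2, 0, 0, 2, 0, 2, 2],
    [0, -2, -4, -2, -2, 0, 0, 0, 2, 0, -2, -2, 0, 2, 0, 0, 2, -2, 0, 0, -2, 0, 2, 2],
    [-2, 0, 2, 0, 0, 2, 2, 2, 0, 2, 0, -4, 2, 0, -2, -2, 0, 0, -2, -2, 0, 2, 0, 0],
    [0, -2, 0, -2, 2, 0, 0, 4, 2, 0, 2, 2, 0, -2, 0, 0, -2, 2, 0, 0, -2, 0, 2, 2],
    [-2, 0, 2, 0, 0, -2, 2, 2, 0, -2, 0, 0, 2, 0, -2, 2, 0, -4, 2, 2, 0, -2, 0, 0],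
    [-4, -2, 0, 2, -2, 0, 0, 0, -2, 0, 2, 2, 0, 2, 0, 0, 2, 2, 0, 0, 2, 0, 2, 2],
    [2, 0, -2, 0, 0, -2, 2, 2, -4, -2, 0, 0, 2, 0, 2, 2, 0, 0, -2, -2, 0, 2, 0, 0],
    [2, 0, -2, 0, 0, 2, -2, 2, 0, 2, 0, 0, 2, 0, -2, 2, 0, 0, 2, 2, 4, 2, 0, 0],
    [0, 2, 0, -2, -2, 0, 4, 0, 2, 0, -2, 2, 0, -2, 0, 0, 2, 2, 0, 0, 2, 0, 2, -2],
    [-2, 0, -2, 0, 0, 2, 2, -2, 0, 2, 0, 0, 2, 0, 2, 2, -4, 0, -2, 2, 0, -2, 0, 0],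
    [-2, 0, -2, 0, 0, 2, 2, 2, 0, -2, 0, 0, -2, 0, 2, -2, 0, 0, 2, 2, 0, 2, -4, 0],
    [0, 2, 0, -2, -2, 0, 0, 0, -2, 0, 2, -2, -4, -2, 0, 0, -2, -2, 0, 0, 2, 0, 2, 2],
    [0, -2, 0, -2, 2, 0, 0, 0, -2, 0, -2, 2, 0, 2, 0, -4, -2, -2, 0, 0, 2, 0, 2, -2],
    [0, 2, 0, -2, -2, 0, 0, 0, -2, 0, -2, 2, 0, 2, -4, 0, -2, 2, 0, 0, -2, 0, -2, 2],
    [0, -2, 0, 2, -2, 0, 0, 0, -2, 0, -2, -2, 0, -2, 0, 0, -2, 2, 4, 0, -2, 0, 2, -2],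
    [0, -2, 0, -2, 2, 0, 0, 0, -2, 0, -2, -2, 0, -2, 0, 0, 2, 2, 0, 0, 2, -4, -2, 2]],
  [
    [-1, -3, 1, -1, 1, 1, 1, -1, -1, 1, -3, 1, -1, 1, 1, -3, 1, -1, -3, -1, -3, 1, 1, -1],
    [-1, -3, -3, 3, 1, 1, 1, 3, -1, 1, 1, 1, -1, 1, 1, 1, -3, -1, 1, -1, 1, 1, 1, -1],
    [1, -1, -1, 1, -1, -1, -5, 1, 1, -1, -1, -1, 1, 3, 3, -1, -1, 1, -1, 1, -1, -1, -1, 1],
    [-1, 1, 1, -1, 1, 1, 1, -1, 3, 1, 1, 1, -1, 1, 1, 1, -3, -1, 1, -1, -3, 1, -3, 3],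
    [1, -1, 3, 1, 3, -1, -1, 1, 1, -1, -1, 3, 1, -1, -1, 3, -1, 1, -1, 1, -1, -1, 3, 1],
    [1, -1, -1, 1, -1, 3, -1, -3, 1, -1, -1, -1, -3, -1, -1, -1, -1, 1, 3, 1, -1, -1, 3, 1],
    [1, 3, -1, 1, -1, -1, -1, 1, -3, 3, -1, 3, -3, -1, -1, -1, -1, 1, -1, 1, -1, -1, -1, 1],
    [-1, 1, 1, -1, 1, -3, 1, -1, -1, -3, 1, 1, -1, 1, 1, -3, -3, -1, 1, -1, 1, -3, 1, -1],
    [1, -1, -1, 1, -1, -1, -1, -3, 1, -1, 3, 3, 1, -1, -1, -1, -1, 1, -1, 1, -1, 3, -1, -3],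
    [3, 1, 1, 3, 1, -3, 1, -1, -1, 1, 1, -3, -1, 1, 1, 1, 1, -1, 1, -1, -3, 1, 1, -1],
    [-3, 3, -1, 1, -1, -1, -1, 1, 1, -1, -1, -1, 1, -1, -1, -1, -1, -3, -1, 1, -1, 3, 3, 1],
    [1, -1, -1, 1, -1, -1, -1, 1, 1, -1, -1, 3, 1, -1, -1, -1, 3, -3, 3, -3, -1, -1, -1, 1],
    [1, -1, 3, 1, -1, -1, -1, 1, 1, -1, -1, -1, -3, -1, -1, -1, -1, 1, -1, -3, 3, 3, -1, 1],
    [-3, -1, 3, 1, -1, -1, -1, 1, 1, 3, -1, -1, 1, -1, -1, -1, -1, 1, 3, 1, -1, -1, -1, -3],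
    [1, -1, 3, 1, -1, 3, -1, 1, -3, -1, 3, -1, 1, -1, -1, -1, -1, -3, -1, 1, -1, -1, -1, 1],
    [1, -1, -1, 1, 3, -1, -1, -3, 1, 3, -1, -1, 1, -1, -1, -1, -1, -3, -1, 1, 3, -1, -1, 1],
    [-1, -3, 1, -1, -3, -3, 1, -1, -1, 1, 1, 1, -1, 1, 1, 1, 1, -1, 1, 3, 1, 1, 1, 3],
    [1, -1, -1, 1, -1, -1, 3, 1, 1, -1, -1, -1, 1, 3, -5, -1, -1, 1, -1, 1, -1, -1, -1, 1],
    [-1, 1, 1, -1, 1, 1, -3, -1, -1, 1, 1, 1, -1, 5, -3, 1, 1, -1, 1, -1, 1, 1, 1, -1],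
    [-3, -1, -1, 1, 3, -1, -1, 1, 1, -1, 3, -1, -3, -1, -1, -1, 3, 1, -1, 1, -1, -1, -1, 1],
    [-3, -1, -1, 1, -1, -1, -1, -3, -3, -1, -1, -1, 1, -1, -1, 3, -1, 1, -1, -3, -1, -1, -1, 1],
    [1, -1, -1, -3, -1, -1, -1, 1, 1, 3, 3, -1, 1, -1, -1, -1, -1, 1, -1, -3, -1, -1, 3, 1],
    [1, -1, -1, -3, 3, -1, -1, 1, -3, -1, -1, -1, 1, -1, -1, -1, -1, 1, 3, 1, -1, 3, -1, 1],
    [-1, 1, 1, 3, 1, 1, 1, -1, -1, 1, 1, 1, 3, 1, 1, -3, 1, 3, 1, -1, 1, 1, 1, 3]],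
  [
    [0, 0, 0, 2, 2, 0, -2, -2, 2, 0, 2, 0, 0, -2, -2, 4, -2, -2, 0, -2, 0, 0, 0, 2],
    [0, 0, 0, -2, -2, 0, 2, -2, 2, 0, 2, 0, 0, -2, 2, 0, 2, -2, 0, 2, -4, 0, 0, 2],
    [0, 0, 0, -2, 2, 0, 2, 2, -2, 0, 2, 0, 0, -2, -2, 0, 2, -2, 0, -2, 0, 4, 0, -2],
    [-2, 2, 2, 0, 0, -2, 4, 0, 0, 2, 0, 2, 2, 0, 0, 2, 0, 0, -2, 0, 2, -2, -2, 0],
    [-2, 2, -2, 0, 0, 2, 0, 0, -4, 2, 0, -2, -2, 0, 0, 2, 0, 0, -2, 0, -2, -2, 2, 0],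
    [0, 0, 0, 2, -2, 0, 2, -2, -2, -4, -2, 0, 0, -2, 2, 0, -2, -2, 0, -2, 0, 0, 0, -2],
    [2, -2, -2, -4, 0, -2, 0, 0, 0, -2, 0, -2, 2, 0, 0, 2, 0, 0, -2, 0, 2, -2, 2, 0],
    [2, 2, -2, 0, 0, 2, 0, 0, 0, -2, 0, 2, 2, 0, 0, 2, 0, 4, -2, 0, -2, 2, -2, 0],
    [-2, -2, 2, 0, 4, 2, 0, 0, 0, -2, 0, -2, 2, 0, 0, -2, 0, 0, -2, 0, -2, -2, -2, 0],
    [0, 0, 0, -2, -2, 4, 2, 2, 2, 0, -2, 0, 0, 2, -2, 0, -2, -2, 0, -2, 0, 0, 0, 2],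
    [-2, -2, -2, 0, 0, 2, 0, 0, 0, 2, 0, -2, 2, 0, 4, 2, 0, 0, 2, 0, 2, 2, -2, 0],
    [0, 0, 0, -2, 2, 0, 2, -2, 2, 0, 2, 0, -4, 2, 2, 0, -2, 2, 0, -2, 0, 0, 0, -2],
    [0, 0, 0, -2, 2, 0, -2, -2, -2, 0, -2, 4, 0, 2, 2, 0, 2, -2, 0, -2, 0, 0, 0, 2],
    [2, 2, 2, 0, 0, 2, 0, 0, 0, -2, 0, -2, -2, 0, 0, 2, 4, 0, 2, 0, 2, -2, -2, 0],
    [2, -2, 2, 0, 0, -2, 0, 0, 0, 2, -4, -2, -2, 0, 0, 2, 0, 0, -2, 0, -2, 2, -2, 0],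
    [-4, 0, 0, -2, -2, 0, -2, -2, 2, 0, -2, 0, 0, -2, -2, 0, 2, 2, 0, -2, 0, 0, 0, -2],
    [2, -2, -2, 0, 0, 2, 0, 0, 0, 2, 0, 2, -2, -4, 0, -2, 0, 0, -2, 0, 2, -2, -2, 0],
    [2, 2, 2, 0, 0, 2, 0, -4, 0, 2, 0, -2, 2, 0, 0, -2, 0, 0, -2, 0, 2, 2, 2, 0],
    [0, 0, 0, 2, 2, 0, 2, 2, 2, 0, -2, 0, 0, -2, 2, 0, 2, 2, 0, -2, 0, 0, 4, 2],
    [2, -2, 2, 0, 0, 2, 0, 0, 0, 2, 0, 2, 2, 0, 0, 2, 0, 0, 2, 0, -2, -2, 2, -4],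
    [0, 4, 0, -2, 2, 0, -2, 2, 2, 0, -2, 0, 0, -2, 2, 0, -2, -2, 0, 2, 0, 0, 0, -2],
    [0, 0, -4, 2, 2, 0, 2, -2, 2, 0, -2, 0, 0, 2, -2, 0, 2, -2, 0, 2, 0, 0, 0, -2],
    [0, 0, 0, 2, -2, 0, -2, 2, 2, 0, 2, 0, 0, 2, 2, 0, 2, -2, -4, -2, 0, 0, 0, -2],
    [-2, -2, 2, 0, 0, 2, 0, 0, 0, -2, 0, 2, -2, 0, 0, 2, 0, 0, -2, 4, 2, 2, 2, 0]],
  [
    [1, -3, -1, 1, 3, 1, 1, -1, 1, 1, 1, 3, -1, -1, -1, -1, 1, -1, 1, 1, 3, -1, -3, -1],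
    [1, 1, -1, 1, -1, 1, 1, 3, -3, 1, 1, -1, 3, -1, -1, -1, 1, 3, 1, 1, -1, -1, -3, -1],
    [-1, -1, 1, -1, 1, -1, -1, 1, -1, 3, -1, 1, 1, -3, 1, 1, -1, -3, -1, 3, -3, 1, -1, 1],
    [-1, -1, 1, 3, 1, -1, 3, 1, -1, -1, -1, -3, -3, -3, 1, 1, -1, 1, -1, -1, 1, 1, -1, 1],
    [-3, 1, -1, 1, 3, 1, 1, -1, -3, 1, 1, -1, -1, 3, -1, 3, 1, -1, 1, 1, -1, -1, 1, -1],
    [-1, -1, 1, 3, -3, 3, -1, 1, -1, -1, -1, 1, 1, 1, 1, 1, -1, -3, -1, -1, 1, -3, -1, 1],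
    [-1, -1, 1, -1, -3, -1, 3, -3, -1, -1, -1, 1, 1, 1, -3, 1, -1, 1, -1, 3, 1, 1, -1, 1],
    [1, -3, -1, 1, -1, -3, 1, 3, 1, 1, 1, -1, -1, 3, -1, -1, 1, -1, 1, 1, -1, -1, 1, 3],
    [1, 1, -1, 1, 3, 1, 1, -1, 1, -3, 1, -1, 3, -1, -1, -1, -3, -1, 1, 1, -1, -1, 1, 3],
    [1, 1, -5, 1, -1, 1, 1, -1, 1, 1, -3, -1, -1, -1, -1, -1, 1, -1, -3, 1, -1, -1, 1, -1],
    [-1, -1, 1, -1, 1, 3, 3, 1, -1, 3, -1, 1, 1, 1, 1, -3, -1, 1, -1, -1, 1, 1, 3, 1],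
    [-1, 3, 1, 3, 1, -1, -1, 1, 3, 3, -1, 1, 1, 1, -3, 1, -1, 1, -1, -1, 1, 1, -1, 1],
    [3, -1, 1, 3, 1, -1, -1, 1, -1, -1, -1, 1, 1, 1, 1, 1, -1, 1, -1, 3, 1, 1, 3, -3],
    [1, 1, 3, 1, -1, 1, 1, -1, 1, 1, 5, -1, -1, -1, -1, -1, 1, -1, -3, 1, -1, -1, 1, -1],
    [3, 3, 1, -1, 1, -1, 3, 1, -1, -1, -1, 1, 1, 1, 1, 1, 3, -3, -1, -1, 1, 1, -1, 1],
    [1, 1, -1, -3, -1, 1, 1, 3, 1, 1, 1, -1, -1, -1, -1, 3, -3, -1, 1, 1, 3, -1, 1, -1],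
    [1, -3, -1, 1, -1, 1, 1, -1, 1, 1, 1, -1, 3, -1, -1, 3, 1, -1, 1, -3, -1, 3, 1, -1],
    [-1, -1, 1, -1, 1, 3, -1, 1, 3, -1, -1, -3, 1, 1, 1, 1, 3, 1, -1, 3, 1, 1, -1, 1],
    [1, 1, -1, 1, -1, 1, 1, -1, 1, 1, 1, -1, -1, 3, 3, -1, -3, -1, 1, 1, -1, 3, -3, -1],
    [1, 1, -1, 1, -1, 1, -3, -1, -3, 1, 1, -1, -1, -1, -1, -1, 1, -1, 1, 1, 3, 3, 1, 3],
    [-1, -1, 1, -1, 1, -1, -1, 1, -1, -1, -1, -3, 1, 1, -3, -3, -1, -3, -1, -1, 1, 1, -1, -3],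
    [3, -1, 1, -1, 1, 3, -1, 1, -1, -1, -1, 1, -3, 1, -3, 1, -1, 1, -1, -1, -3, 1, -1, 1],
    [1, 1, 3, 1, -1, 1, 1, -1, 1, 1, -3, -1, -1, -1, -1, -1, 1, -1, 5, 1, -1, -1, 1, -1],
    [3, -1, 1, -1, 1, -1, -1, -3, -1, 3, -1, -3, 1, 1, 1, 1, -1, 1, -1, -1, 1, -3, -1, 1]],
  [
    [0, 0, 0, 2, -2, 0, 2, 0, 2, 0, 0, 2, -4, 0, 2, 2, 2, -2, -2, 0, 0, 0, 2, 2],
    [-2, 2, 2, 0, 0, -2, 0, -2, 0, -2, -2, 0, -2, 2, -4, 0, 0, 0, 0, -2, -2, -2, 0, 0],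
    [-2, -2, 2, 4, 0, 2, 0, -2, 0, -2, 2, 0, 2, -2, 0, 0, 0, 0, 0, -2, -2, 2, 0, 0],
    [-2, -2, -2, 0, 0, 2, 0, 2, 4, -2, -2, 0, 2, 2, 0, 0, 0, 0, 0, 2, -2, -2, 0, 0],
    [0, 0, 0, 2, 2, -4, -2, 0, 2, 0, 0, 2, 0, 0, 2, -2, -2, -2, -2, 0, 0, 0, -2, -2],
    [-2, 2, -2, 0, 0, 2, 0, -2, 0, 2, 2, 0, -2, 2, 0, 0, 0, 0, 0, 2, -2, 2, 0, -4],
    [0, 0, 0, 2, 2, 0, 2, 0, -2, 0, 0, 2, 0, 0, 2, -2, 2, 2, 2, 0, 0, -4, 2, -2],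
    [-2, 2, 2, 0, 0, 2, 0, 2, 0, 2, -2, 4, 2, 2, 0, 0, 0, 0, 0, -2, 2, 2, 0, 0],
    [0, 0, 0, -2, -2, 0, -2, 0, 2, 0, 0, 2, 0, -4, -2, -2, 2, 2, -2, 0, 0, 0, 2, -2],
    [0, 0, 0, 2, 2, 0, -2, 0, -2, 0, 0, 2, 0, 0, -2, 2, 2, 2, -2, 4, 0, 0, -2, 2],
    [-2, -2, -2, 0, 0, -2, 0, 2, 0, -2, 2, 0, -2, 2, 0, 0, 0, 4, 0, -2, 2, 2, 0, 0],
    [0, 0, 0, -2, -2, 0, -2, 0, -2, -4, 0, 2, 0, 0, 2, 2, 2, -2, 2, 0, 0, 0, -2, -2],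
    [2, 2, -2, 0, 0, 2, 0, -2, 0, -2, 2, 0, 2, 2, 0, 0, 0, 0, -4, -2, 2, -2, 0, 0],
    [0, 0, 0, -2, 2, 0, -2, -4, 2, 0, 0, 2, 0, 0, 2, 2, -2, 2, 2, 0, 0, 0, 2, 2],
    [0, 4, 0, 2, -2, 0, -2, 0, 2, 0, 0, -2, 0, 0, 2, -2, 2, 2, 2, 0, 0, 0, -2, 2],
    [0, 0, 4, -2, 2, 0, 2, 0, 2, 0, 0, -2, 0, 0, 2, 2, 2, 2, -2, 0, 0, 0, -2, -2],
    [-4, 0, 0, -2, 2, 0, -2, 0, -2, 0, 0, -2, 0, 0, 2, -2, 2, -2, -2, 0, 0, 0, 2, 2],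
    [2, 2, -2, 0, 4, 2, 0, 2, 0, -2, -2, 0, -2, -2, 0, 0, 0, 0, 0, -2, -2, 2, 0, 0],
    [0, 0, 0, 2, 2, 0, -2, 0, 2, 0, 0, -2, 0, 0, -2, 2, 2, -2, 2, 0, 4, 0, 2, -2],
    [2, 2, 2, 0, 0, -2, 0, 2, 0, -2, 2, 0, 2, 2, 0, 0, 0, 0, 0, 2, -2, 2, 4, 0],
    [0, 0, 0, 2, -2, 0, -2, 0, -2, 0, -4, -2, 0, 0, 2, 2, -2, 2, -2, 0, 0, 0, 2, -2],
    [-2, 2, -2, 0, 0, -2, 4, -2, 0, -2, -2, 0, 2, -2, 0, 0, 0, 0, 0, 2, 2, 2, 0, 0],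
    [-2, 2, -2, 0, 0, -2, 0, 2, 0, 2, 2, 0, 2, -2, 0, 4, 0, 0, 0, -2, -2, -2, 0, 0],
    [-2, 2, 2, 0, 0, 2, 0, 2, 0, -2, 2, 0, -2, -2, 0, 0, -4, 0, 0, 2, 2, -2, 0, 0]]]

/-- The base vectors and their orbits. -/
def orbits : List (List (List Int)) := [[
    [4, 4, 0, 0, 0, 0, 0, 0, 0, 0, 0, 0, 0, 0, 0, 0, 0, 0, 0, 0, 0, 0, 0, 0],
    [-2, -2, 2, -2, 0, 0, 0, 0, 0, 0, 0, 0, 0, -2, 0, 0, 0, 0, 2, 0, -2, -2, 0, 0],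
    [-2, -2, -2, 2, 0, 0, 0, 0, 0, 0, 0, 0, 0, 2, 0, 0, 0, 0, -2, 0, 2, 2, 0, 0]],
  [
    [-2, 0, 2, 0, 0, 0, 0, 0, 0, 0, 0, 0, 0, 2, -2, 2, 2, 2, 0, 0, 2, 0, 0, 0],
    [1, 1, -1, 1, 1, -1, 1, -1, 1, 1, 1, -1, 1, -1, 1, -1, -1, -1, -1, -1, -1, 1, -3, -1],
    [1, -1, -1, -1, -1, 1, -1, 1, -1, -1, -1, 1, -1, -1, 1, -1, -1, -1, 1, 1, -1, -1, 3, 1]],
  [
    [0, -4, 0, 0, -4, 0, 0, 0, 0, 0, 0, 0, 0, 0, 0, 0, 0, 0, 0, 0, 0, 0, 0, 0],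
    [-1, 3, -1, 1, 1, 1, 1, 1, -1, 1, 1, -1, -1, 1, 1, 1, 1, 1, -1, 1, 1, 1, 1, -1],
    [1, 1, 1, -1, 3, -1, -1, -1, 1, -1, -1, 1, 1, -1, -1, -1, -1, -1, 1, -1, -1, -1, -1, 1]],
  [
    [0, -4, -4, 0, 0, 0, 0, 0, 0, 0, 0, 0, 0, 0, 0, 0, 0, 0, 0, 0, 0, 0, 0, 0],
    [1, 3, 1, 1, -1, -1, -1, 1, -1, 1, -1, 1, -1, 1, 1, 1, 1, 1, -1, 1, 1, 1, 1, 1],
    [-1, 1, 3, -1, 1, 1, 1, -1, 1, -1, 1, -1, 1, -1, -1, -1, -1, -1, 1, -1, -1, -1, -1, -1]]]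

/-- Size and conditions of the class of each base vector. -/
def classData : List (Nat × List ((Nat × Nat) × Int)) := [(20736, [((0, 0), -8), ((0, 1), 0)]),
  (396, [((0, 0), -16), ((0, 1), 8), ((1, 0), 0), ((1, 1), -8)]),
  (3, [((0, 0), -16), ((0, 1), 0), ((1, 0), -8), ((1, 1), 0), ((2, 0), 16), ((2, 1), -8)])]

/-- Packed conditions. -/
def classW : List (List Int × List Nat × Int × Nat) := [([-252, -252, 256, -256, 0, 0, 0, 0, 0, 0, 0, 0, 0, -256, 0, 0, 0, 0, 256, 0, -256, -256, 0, 0], [4398046510852, 4398046510852, 4398046511360, 4398046510848, 4398046511104, 4398046511104, 4398046511104, 4398046511104, 4398046511104, 4398046511104, 4398046511104, 4398046511104, 4398046511104, 4398046510848, 4398046511104, 4398046511104, 4398046511104, 4398046511104,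 4398046511360, 4398046511104, 4398046510848, 4398046510848, 4398046511104, 4398046511104], -8, 140737488355320),
  ([2064132, 2096900, -2064128, 2096896, 2097152, -2097152, 2097152, -2097152, 2097152, 2097152, 2097152, -2097152, 2097152, -2064640, 2064384, -2064384, -2064384, -2064384, -2096896, -2097152, -2064640, 2096896, -6291456, -2097152], [4398048575236, 4398048608004, 4398044446976, 4398048608000, 4398048608256, 4398044413952, 4398048608256, 4398044413952, 4398048608256, 4398048608256, 4398048608256, 4398044413952, 4398048608256, 4398044446464, 4398048575488, 4398044446720, 4398044446720, 4398044446720, 4398044414208, 4398044413952, 4398044446464, 4398048608000, 4398040219648, 4398044413952], -16776208, 140737471579120),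
  ([-34357674236, 102007570180, -34361802496, 34361835264, 33288093696, 34357641216, 34361835520, 34357641216, -34357641216, 34361835520, 34361835520, -34361835520, -34357641216, 34357673728, 34361802752, 34357673984, 34357673984, 34357673984, -34361835264, 34357641216, 34357673728, 34361835264, 34353446912, -34361835520], [4363688836868, 4500054081284, 4363684708608, 4432408346368, 4431334604800, 4432404152320, 4432408346624, 4432404152320, 4363688869888, 4432408346624, 4432408346624, 4363684675584, 4363688869888, 4432404184832, 4432408313856, 4432404185088, 4432404185088, 4432404185088, 4363684675840, 4432404152320, 4432404184832, 4432408346368, 4432399958016, 4363684675584], -270583070736, 140466905284592)]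

/-- The vectors measuring the vectors determined by the base. -/
def singleConds : List (Nat × Nat) := [(0, 1), (1, 0), (1, 1), (2, 0), (2, 1), (3, 0)]

/-- Vectors determined by the base. -/
def singles : List (List Int) := [
    [2, 2, -2, 2, 0, 0, 0, 0, 0, 0, 0, 0, 0, 2, 0, 0, 0, 0, -2, 0, 2, 2, 0, 0],
    [4, 0, -4, 0, 0, 0, 0, 0, 0, 0, 0, 0, 0, 0, 0, 0, 0, 0, 0, 0, 0, 0, 0, 0],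
    [3, 1, -1, 1, -1, 1, -1, 1, 1, 1, 1, -1, -1, -1, 1, -1, -1, -1, -1, 1, 1, 1, 1, -1],
    [2, 0, -2, 2, -2, 0, 0, 0, 0, 0, 0, 2, 0, 0, 2, 0, -2, 0, -2, 0, 0, 0, 0, 0],
    [2, 2, -2, 0, 2, 0, 0, 0, 0, 0, 0, -2, 0, 0, 0, -2, 0, -2, 0, 0, 0, 2, 0, 0],
    [2, 2, -2, 0, 2, 0, 0, 0, 0, 0, 0, 0, 0, 2, 0, 0, -2, 0, 0, 0, 0, 0, 2, 2],
    [1, 3, -1, 1, 1, 1, -1, 1, -1, -1, -1, 1, -1, -1, 1, -1, 1, -1, -1, 1, 1, 1, 1, -1],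
    [1, 3, -1, -1, -1, 1, 1, 1, -1, 1, -1, -1, -1, 1, 1, -1, -1, -1, -1, 1, 1, 1, 1, 1],
    [3, 1, 1, 1, -1, 1, -1, 1, -1, -1, -1, 1, -1, 1, 1, -1, -1, -1, -1, 1, 1, 1, -1, 1],
    [1, -1, -3, 1, 1, -1, -1, 1, -1, -1, -1, -1, 1, 1, -1, -1, -1, -1, -1, 1, 1, 1, 1, 1],
    [2, 2, 0, 2, -2, 0, 0, 0, -2, 0, 0, 0, 0, 0, 0, 0, 0, -2, -2, 0, 0, 0, 2, 0],
    [1, -1, -3, 1, 1, 1, 1, 1, -1, -1, 1, 1, -1, 1, 1, 1, -1, -1, -1, -1, 1, 1, 1, 1],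
    [0, 2, -2, 2, -2, 0, 0, 0, 0, 0, 0, 0, 0, 0, 2, 0, 0, 0, 0, 2, 0, 2, 2, 0],
    [1, 1, -3, 1, -1, 1, 1, 1, -1, 1, 1, 1, -1, 1, 1, -1, 1, -1, -1, 1, 1, -1, 1, -1],
    [1, 1, -1, 1, -3, 1, -1, -1, 1, -1, -1, -1, -1, 1, 1, -1, -1, -1, -1, -1, 1, 1, 1, 1],
    [1, -1, -3, 1, -1, 1, -1, -1, -1, -1, 1, -1, -1, 1, 1, -1, -1, 1, -1, 1, 1, 1, 1, -1],
    [4, 4, 0, 0, 0, 0, 0, 0, 0, 0, 0, 0, 0, 0, 0, 0, 0, 0, 0, 0, 0, 0, 0, 0],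
    [3, -1, -1, 1, -1, -1, -1, -1, 1, -1, -1, 1, 1, 1, -1, -1, -1, -1, -1, -1, 1, 1, -1, 1],
    [1, 1, -1, 1, -3, -1, 1, 1, -1, -1, 1, -1, -1, 1, 1, -1, -1, -1, -1, 1, 1, 1, -1, -1],
    [1, -1, -3, 1, -1, -1, 1, 1, 1, 1, 1, -1, 1, 1, 1, 1, -1, -1, -1, 1, 1, 1, 1, -1],
    [1, 3, -1, 1, -1, 1, 1, -1, -1, 1, 1, -1, 1, -1, 1, -1, 1, -1, -1, 1, 1, 1, -1, -1],
    [1, 1, -3, 1, 1, 1, 1, 1, -1, 1, 1, -1, 1, 1, 1, 1, 1, -1, -1, -1, -1, 1, -1, -1],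
    [2, 2, 0, 2, -2, 0, 0, 0, 2, 0, 0, 0, 0, 0, 0, 0, 0, -2, -2, 0, 0, 0, -2, 0],
    [1, -1, -3, 1, 1, 1, 1, -1, 1, -1, 1, -1, 1, 1, -1, -1, -1, -1, -1, -1, 1, 1, -1, -1]]

/-- Their inner products. -/
def singleDots : List (List Int) := [
    [-32, 0, 8, -8, 16, 0],
    [-16, -16, 8, 0, 0, 16],
    [-16, -16, 8, 0, 8, 0],
    [-16, -16, 8, 8, 0, 8],
    [-16, -16, 16, -16, 8, 0],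
    [-16, -8, 0, -16, 8, 0],
    [-16, -8, 0, -16, 16, -8],
    [-16, -8, 0, -8, 16, -8],
    [-16, -8, 0, 0, 0, -8],
    [-16, -8, 0, 0, 0, 16],
    [-16, -8, 0, 0, 8, -8],
    [-16, -8, 0, 0, 8, 16],
    [-16, -8, 0, 0, 16, 0],
    [-16, -8, 0, 0, 16, 8],
    [-16, -8, 0, 8, 0, 0],
    [-16, -8, 0, 8, 8, 16],
    [-16, -8, 8, -16, 8, -16],
    [-16, -8, 8, 8, -16, 8],
    [-16, -8, 8, 8, 8, 0],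
    [-16, -8, 8, 8, 8, 16],
    [-16, -8, 16, -8, 16, -8],
    [-16, -8, 16, -8, 16, 8],
    [-16, -8, 16, 0, 0, -8],
    [-16, -8, 16, 0, 0, 16]]

/-- Packed weights. -/
def singleW : List Int := [-268419330, -136642019330, -137707405054, 268451838, 260063232, 268419072, 268451840, 268419072, -268419072, 268451840, 268451840, -268451840, -268419072, 268419326, 268451584, 268419328, 268419328, 268419328, -268451838, 268419072, 268419326, 268451838, 268386304, -268451840]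

/-- Shifted weights. -/
def singleWb : List Nat := [4397778091774, 4261404491774, 4260339106050, 4398314962942, 4398306574336, 4398314930176, 4398314962944, 4398314930176, 4397778092032, 4398314962944, 4398314962944, 4397778059264, 4397778092032, 4398314930430, 4398314962688, 4398314930432, 4398314930432, 4398314930432, 4397778059266, 4398314930176, 4398314930430, 4398314962942, 4398314897408, 4397778059264]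

/-- Packed targets. -/
def singleT : List Int := [4278321120, 549755942896, 2147612656, 274894813168, 2114189296, 2113928176, -270616495120, -270599717904, -274877907984, 549755812848, -272730424336, 551903296496, 4294966256, 279172873200, 16776176, 551920073712, -547641754640, 270599846896, 2164390896, 551920204784, -270599455760, 279156358128, -274877645840, 549756074992]

/-- Shifted targets. -/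
def singleTb : List Nat := [140741766676448, 141287244298224, 140739635967984, 141012383168496, 140739602544624, 140739602283504, 140466871860208, 140466888637424, 140462610447344, 141287244168176, 140464757930992, 141289391651824, 140741783321584, 141016661228528, 140737505131504, 141289408429040, 140189846600688, 141008088202224, 140739652746224, 141289408560112, 140466888899568, 141016644713456, 140462610709488, 141287244430320]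

/-- Scale of the coordinates. -/
def spanScale : Int := 8

/-- Coordinates in terms of the determined vectors. -/
def spanMat : List (List Int) := [
    [0, -1, -1, 1, 2, -3, -2, 0, 1, 1, 0, 1, 0, 1, 0, 1, 4, -1, -2, 1, -1, -1, 0, 0],
    [0, 1, 1, -1, -2, 3, 2, 0, -1, -1, 0, -1, 0, -1, 0, -1, -2, 1, 2, -1, 1, 1, 0, 0],
    [0, -3, -1, 1, 2, -3, -2, 0, 1, 1, 0, 1, 0, 1, 0, 1, 4, -1, -2, 1, -1, -1, 0, 0],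
    [4, 5, 1, 1, 0, 3, 0, -4, 3, -1, 2, -3, 0, -1, 2, -5, -6, -5, 2, -1, 1, -1, -2, 2],
    [1, 0, -1, 1, 2, 0, 0, -1, 1, 0, 0, 0, -1, 0, 0, 0, 0, -2, -1, 1, 0, -1, 0, 0],
    [-1, 0, 1, -1, -2, 0, 0, 1, 1, 0, 0, 0, 1, 0, 0, 0, 0, 0, -1, -1, 0, 1, 0, 2],
    [1, -2, -3, 3, 4, -6, -4, 1, 1, 2, 0, 2, 1, 2, 0, 0, 6, -4, -3, 1, -2, -3, 0, 2],
    [-1, -4, 1, 1, 0, -4, -2, 1, -1, 4, -2, 2, 1, 2, 0, 0, 6, 0, -1, -1, -2, 1, 0, 0],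
    [-1, -4, -1, 1, 2, -4, -2, 1, -1, 2, -2, 2, 1, 2, 0, 2, 6, 0, -3, 1, -2, -1, 2, 0],
    [3, 6, 3, -1, -2, 6, 2, -1, 1, -4, 2, -4, -1, -2, 0, -4, -10, 0, 3, -1, 2, 1, -2, 0],
    [-3, -6, 1, -1, 0, -2, -2, 1, -3, 2, -2, 4, 1, 2, -2, 4, 6, 4, -1, -1, 0, 1, 2, -2],
    [-1, 0, 1, -1, -2, 2, 2, 1, -1, -2, 0, 0, 1, 0, -2, 0, -2, 4, 1, -1, 0, 1, 0, 0],
    [-3, -6, -1, 1, 0, -4, -2, 1, -1, 4, -2, 2, 1, 2, 0, 2, 8, 2, -3, 1, 0, 1, 0, 0],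
    [0, -1, -1, -1, 0, 1, 0, 0, 1, -1, 0, -1, 0, 1, 0, 1, 0, 1, 0, 1, -1, 1, 0, 0],
    [-1, -4, -3, 3, 4, -4, -2, -1, 1, 2, -2, 2, -1, 2, 2, 2, 6, -2, -3, 3, 0, -1, 0, -2],
    [1, 6, 1, -3, -4, 6, 4, -1, 1, -4, 2, -2, -1, -4, 0, -2, -8, 0, 3, 1, 2, 1, 0, 0],
    [-1, -6, -3, 1, 4, -8, -4, 1, -1, 4, -2, 4, 1, 4, 0, 4, 10, 0, -5, 1, -2, -1, 2, -2],
    [1, -4, -1, 3, 2, -6, -4, 1, -1, 4, -2, 2, 1, 2, 0, 2, 8, -2, -3, -1, -2, -1, 0, 0],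
    [2, 9, 3, -3, -4, 9, 4, -4, 3, -5, 2, -5, 0, -3, 2, -7, -12, -1, 6, -1, 3, 1, -4, 2],
    [-1, 0, -1, -1, 0, 0, 0, 1, 1, 0, 0, 0, 1, 0, -2, 2, 0, 0, -1, 1, 0, -1, 2, 0],
    [2, 3, 1, -1, -2, 3, 2, -2, 1, -1, 0, -1, -2, -1, 2, -3, -4, -1, 2, 1, 3, -1, -2, 0],
    [0, -1, 1, -1, 0, -1, 0, 2, -1, -1, 0, 1, 2, -1, -2, 1, 0, 3, 0, -1, -1, 1, 0, 0],
    [-1, -4, -1, 1, 2, -4, -2, 1, -1, 2, 0, 2, 1, 2, 0, 2, 6, 0, -3, 1, -2, -1, 0, 0],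
    [-1, -4, -1, 1, 2, -4, -4, 1, -1, 4, -2, 4, 1, 2, 0, 2, 6, 0, -3, -1, 0, -1, 2, -2]]

end CfsgLib.SuzCo0
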