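/-!
For each non-zero coordinate vector, words whose images of it sum to the first basis vector.
-/

set_option autoImplicit false
set_option maxRecDepth 100000

namespace CfsgLib.SuzCo0.Cent

/-- The words, by vector. -/
def reachWords : List (List Nat × List (List Nat)) := [([0, 0, 0, 0, 0, 1], [[], [0, 1, 0, 0, 0, 0, 1]]),
  ([0, 0, 0, 0, 1, 0], [[], [0]]),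
  ([0, 0, 0, 0, 1, 1], [[], [1, 0, 0, 1, 1]]),
  ([0, 0, 0, 1, 0, 0], [[1, 0, 1, 0, 0]]),
  ([0, 0, 0, 1, 0, 1], [[], [0, 1, 1, 0]]),
  ([0, 0, 0, 1, 1, 0], [[], [1, 1, 0, 1, 1]]),
  ([0, 0, 0, 1, 1, 1], [[], [0, 0, 1, 1, 1, 1, 1]]),
  ([0, 0, 1, 0, 0, 0], [[0, 1, 1, 1, 1]]),
  ([0, 0, 1, 0, 0, 1], [[], [1, 1, 0, 1]]),
  ([0, 0, 1, 0, 1, 0], [[], [0, 1, 0, 0, 1]]),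
  ([0, 0, 1, 0, 1, 1], [[], [0, 1, 1, 1]]),
  ([0, 0, 1, 1, 0, 0], [[], [1, 0, 0]]),
  ([0, 0, 1, 1, 0, 1], [[0, 1, 1, 1, 0]]),
  ([0, 0, 1, 1, 1, 0], [[0, 1, 0]]),
  ([0, 0, 1, 1, 1, 1], [[1, 1, 0]]),
  ([0, 1, 0, 0, 0, 0], [[1, 0, 1]]),
  ([0, 1, 0, 0, 0, 1], [[1], [0, 1]]),
  ([0, 1, 0, 0, 1, 0], [[0, 0], [1, 0, 1]]),
  ([0, 1, 0, 0, 1, 1], [[1], [0, 0, 1, 1, 1, 1]]),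
  ([0, 1, 0, 1, 0, 0], [[0, 1, 0, 0]]),
  ([0, 1, 0, 1, 0, 1], [[0], [1, 0]]),
  ([0, 1, 0, 1, 1, 0], [[0], [1, 1, 0]]),
  ([0, 1, 0, 1, 1, 1], [[0], [0, 1, 1, 1, 0]]),
  ([0, 1, 1, 0, 0, 0], [[0, 1, 1, 1]]),
  ([0, 1, 1, 0, 0, 1], [[0, 0], [1, 1, 0, 0]]),
  ([0, 1, 1, 0, 1, 0], [[1], [0, 1, 1, 1, 0, 0, 0]]),
  ([0, 1, 1, 0, 1, 1], [[0, 0], [1, 1, 1]]),
  ([0, 1, 1, 1, 0, 0], [[0], [0, 0, 0, 0, 1]]),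
  ([0, 1, 1, 1, 0, 1], [[0, 1]]),
  ([0, 1, 1, 1, 1, 0], [[0, 0]]),
  ([0, 1, 1, 1, 1, 1], [[1, 1, 0, 0]]),
  ([1, 0, 0, 0, 0, 0], [[]]),
  ([1, 0, 0, 0, 0, 1], [[], [0, 0, 0, 0, 1]]),
  ([1, 0, 0, 0, 1, 0], [[], [1, 0, 1, 1, 1, 0]]),
  ([1, 0, 0, 0, 1, 1], [[], [0, 0]]),
  ([1, 0, 0, 1, 0, 0], [[0, 1, 1]]),
  ([1, 0, 0, 1, 0, 1], [[], [0, 1, 1, 0]]),
  ([1, 0, 0, 1, 1, 0], [[], [1, 0, 0, 1, 1]]),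
  ([1, 0, 0, 1, 1, 1], [[], [0, 0, 1, 1, 1]]),
  ([1, 0, 1, 0, 0, 0], [[0]]),
  ([1, 0, 1, 0, 0, 1], [[], [1]]),
  ([1, 0, 1, 0, 1, 0], [[], [1, 0, 0]]),
  ([1, 0, 1, 0, 1, 1], [[], [1, 0, 0]]),
  ([1, 0, 1, 1, 0, 0], [[], [1, 1]]),
  ([1, 0, 1, 1, 0, 1], [[1, 0, 0]]),
  ([1, 0, 1, 1, 1, 0], [[1]]),
  ([1, 0, 1, 1, 1, 1], [[0, 0, 0]]),
  ([1, 1, 0, 0, 0, 0], [[1, 0], [0, 1, 0]]),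
  ([1, 1, 0, 0, 0, 1], [[1, 0, 0, 1]]),
  ([1, 1, 0, 0, 1, 0], [[0, 1, 0, 0, 0, 0]]),
  ([1, 1, 0, 0, 1, 1], [[0, 1, 0, 0, 0]]),
  ([1, 1, 0, 1, 0, 0], [[0], [1, 0, 0, 0]]),
  ([1, 1, 0, 1, 0, 1], [[1, 1, 0, 0, 1]]),
  ([1, 1, 0, 1, 1, 0], [[0, 1, 1, 1, 1, 0]]),
  ([1, 1, 0, 1, 1, 1], [[1, 1, 1]]),
  ([1, 1, 1, 0, 0, 0], [[1], [0, 1, 1, 1, 1]]),
  ([1, 1, 1, 0, 0, 1], [[1, 1, 0, 0, 1, 1]]),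
  ([1, 1, 1, 0, 1, 0], [[1, 1]]),
  ([1, 1, 1, 0, 1, 1], [[1, 0, 1, 0]]),
  ([1, 1, 1, 1, 0, 0], [[1, 0]]),
  ([1, 1, 1, 1, 0, 1], [[0], [1, 1]]),
  ([1, 1, 1, 1, 1, 0], [[0], [0, 1, 1]]),
  ([1, 1, 1, 1, 1, 1], [[0], [1, 0, 0, 0]])]

end CfsgLib.SuzCo0.Cent
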