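/-!
Data separating an involution from its negative: vectors fixed by it, and a bound for the vectors
orthogonal to some of them.
-/

set_option autoImplicit false
set_option maxRecDepth 100000

namespace CfsgLib.SuzCo0.Cent

/-- Nine fixed vectors. -/
def sepVecs : List (List Int) := [
    [4, 4, 0, 0, 0, 0, 0, 0, 0, 0, 0, 0, 0, 0, 0, 0, 0, 0, 0, 0, 0, 0, 0, 0],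
    [0, 0, 0, 0, 0, 0, 0, 0, 0, 0, -4, 0, 0, 0, 0, 0, 0, 4, 0, 0, 0, 0, 0, 0],
    [0, 0, 0, 0, 0, 0, -2, 0, 0, 0, 0, 0, 0, 0, 2, 2, 0, 0, 2, -2, 0, 2, 2, 2],
    [0, 0, -2, 0, 0, 0, 0, -2, 2, -2, 0, 0, 0, 0, 0, 2, 0, 0, -2, 2, 0, 0, 0, 2],
    [0, 0, -2, 2, 0, 0, -2, 0, -2, 0, 0, 2, 0, 0, 2, 0, 0, 0, 0, 2, 0, 0, 0, -2],
    [0, 0, 0, 0, 0, 0, 0, 0, 2, 2, 0, -2, 0, 0, 2, 0, -2, 0, -2, 0, 0, 2, 0, -2],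
    [-1, 1, -1, 1, -1, -1, 1, -1, -1, 1, 1, 1, 1, -3, -1, -1, -1, 1, -1, -1, -1, 1, 1, 1],
    [0, 0, 2, 2, 0, 0, 0, -2, 2, 2, 0, 2, -2, 0, 0, 0, 2, 0, 0, 0, 0, 0, 0, 0],
    [0, 2, 0, 0, 0, 0, 0, -2, 0, 0, 0, 0, 0, 2, 0, 0, -2, -2, -2, 0, 2, 0, 2, 0]]

/-- Their packed weights. -/
def sepW : List Int := [-4398046511100, 144119586122366980, 1121501319266304, 1130298490224640, -4398046511104, -4398046511104, 4397509607424, -145245486033403904, 1121570047131648, 1130366668636160, 4398046510592, 1130229770747904, -1121501860331520, 144101993936322560, -4328790130688, -4398042284032, -142993754935001088, -144110790029344256, -144119654846005248, -4397505478656, 144110790029344768,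 4466766020608, 144119586122399744, 4328794390528]

/-- Shifted weights. -/
def sepWb : List Nat := [1152917106560335876, 1297041090729213956, 1154043005926113280, 1154051803097071616, 1152917106560335872, 1152917106560335872, 1152925902116454400, 1007676018573443072, 1154043074653978624, 1154051871275483136, 1152925902653357568, 1154051734377594880, 1151800002746515456, 1297023498543169536, 1152917175816716288, 1152917106564562944, 1009927749671845888, 1008810714577502720, 1008801849760841728, 1152917107101368320, 1297032294636191744, 1152925971372867584, 1297041090729246720, 1152925833401237504]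

/-- The number of vectors orthogonal to all nine. -/
def sepCount : Nat := 244

/-- More fixed vectors than that. -/
def fixedVecs : List (List Int) := [
    [4, 4, 0, 0, 0, 0, 0, 0, 0, 0, 0, 0, 0, 0, 0, 0, 0, 0, 0, 0, 0, 0, 0, 0],
    [-4, -4, 0, 0, 0, 0, 0, 0, 0, 0, 0, 0, 0, 0, 0, 0, 0, 0, 0, 0, 0, 0, 0, 0],
    [4, 0, 0, 0, 0, 0, 0, 0, 0, 0, 4, 0, 0, 0, 0, 0, 0, 0, 0, 0, 0, 0, 0, 0],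
    [-4, 0, 0, 0, 0, 0, 0, 0, 0, 0, -4, 0, 0, 0, 0, 0, 0, 0, 0, 0, 0, 0, 0, 0],
    [4, 0, 0, 0, 0, 0, 0, 0, 0, 0, 0, 0, 0, 4, 0, 0, 0, 0, 0, 0, 0, 0, 0, 0],
    [-4, 0, 0, 0, 0, 0, 0, 0, 0, 0, 0, 0, 0, -4, 0, 0, 0, 0, 0, 0, 0, 0, 0, 0],
    [4, 0, 0, 0, 0, 0, 0, 0, 0, 0, 0, 0, 0, 0, 0, 0, 0, 4, 0, 0, 0, 0, 0, 0],
    [-4, 0, 0, 0, 0, 0, 0, 0, 0, 0, 0, 0, 0, 0, 0, 0, 0, -4, 0, 0, 0, 0, 0, 0],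
    [4, 0, 0, 0, 0, 0, 0, 0, 0, 0, 0, 0, 0, 0, 0, 0, 0, 0, 0, 0, -4, 0, 0, 0],
    [-4, 0, 0, 0, 0, 0, 0, 0, 0, 0, 0, 0, 0, 0, 0, 0, 0, 0, 0, 0, 4, 0, 0, 0],
    [0, 4, 0, 0, 0, 0, 0, 0, 0, 0, -4, 0, 0, 0, 0, 0, 0, 0, 0, 0, 0, 0, 0, 0],
    [0, -4, 0, 0, 0, 0, 0, 0, 0, 0, 4, 0, 0, 0, 0, 0, 0, 0, 0, 0, 0, 0, 0, 0],
    [0, 4, 0, 0, 0, 0, 0, 0, 0, 0, 0, 0, 0, -4, 0, 0, 0, 0, 0, 0, 0, 0, 0, 0],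
    [0, -4, 0, 0, 0, 0, 0, 0, 0, 0, 0, 0, 0, 4, 0, 0, 0, 0, 0, 0, 0, 0, 0, 0],
    [0, 4, 0, 0, 0, 0, 0, 0, 0, 0, 0, 0, 0, 0, 0, 0, 0, -4, 0, 0, 0, 0, 0, 0],
    [0, -4, 0, 0, 0, 0, 0, 0, 0, 0, 0, 0, 0, 0, 0, 0, 0, 4, 0, 0, 0, 0, 0, 0],
    [0, 4, 0, 0, 0, 0, 0, 0, 0, 0, 0, 0, 0, 0, 0, 0, 0, 0, 0, 0, 4, 0, 0, 0],
    [0, -4, 0, 0, 0, 0, 0, 0, 0, 0, 0, 0, 0, 0, 0, 0, 0, 0, 0, 0, -4, 0, 0, 0],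
    [0, 0, 0, 0, 0, 0, 0, 0, 0, 0, 4, 0, 0, -4, 0, 0, 0, 0, 0, 0, 0, 0, 0, 0],
    [0, 0, 0, 0, 0, 0, 0, 0, 0, 0, -4, 0, 0, 4, 0, 0, 0, 0, 0, 0, 0, 0, 0, 0],
    [0, 0, 0, 0, 0, 0, 0, 0, 0, 0, 4, 0, 0, 0, 0, 0, 0, -4, 0, 0, 0, 0, 0, 0],
    [0, 0, 0, 0, 0, 0, 0, 0, 0, 0, -4, 0, 0, 0, 0, 0, 0, 4, 0, 0, 0, 0, 0, 0],
    [0, 0, 0, 0, 0, 0, 0, 0, 0, 0, 4, 0, 0, 0, 0, 0, 0, 0, 0, 0, 4, 0, 0, 0],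
    [0, 0, 0, 0, 0, 0, 0, 0, 0, 0, -4, 0, 0, 0, 0, 0, 0, 0, 0, 0, -4, 0, 0, 0],
    [0, 0, 0, 0, 0, 0, 0, 0, 0, 0, 0, 0, 0, 4, 0, 0, 0, -4, 0, 0, 0, 0, 0, 0],
    [0, 0, 0, 0, 0, 0, 0, 0, 0, 0, 0, 0, 0, -4, 0, 0, 0, 4, 0, 0, 0, 0, 0, 0],
    [0, 0, 0, 0, 0, 0, 0, 0, 0, 0, 0, 0, 0, 4, 0, 0, 0, 0, 0, 0, 4, 0, 0, 0],
    [0, 0, 0, 0, 0, 0, 0, 0, 0, 0, 0, 0, 0, -4, 0, 0, 0, 0, 0, 0, -4, 0, 0, 0],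
    [0, 0, 0, 0, 0, 0, 0, 0, 0, 0, 0, 0, 0, 0, 0, 0, 0, 4, 0, 0, 4, 0, 0, 0],
    [0, 0, 0, 0, 0, 0, 0, 0, 0, 0, 0, 0, 0, 0, 0, 0, 0, -4, 0, 0, -4, 0, 0, 0],
    [2, -2, 0, 0, 0, 0, 0, 0, 0, 0, 0, 0, 0, 2, 0, 2, 0, 2, 2, -2, 0, 0, 0, 2],
    [2, 2, 0, 0, 0, 0, 0, 0, 0, 0, 0, 0, 0, -2, 0, 2, 0, 2, 2, -2, 0, 0, 0, 2],
    [-2, -2, 0, 0, 0, 0, 0, 0, 0, 0, 0, 0, 0, -2, 0, 2, 0, 2, 2, -2, 0, 0, 0, 2],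
    [2, 2, 0, 0, 0, 0, 0, 0, 0, 0, 0, 0, 0, 2, 0, 2, 0, -2, 2, -2, 0, 0, 0, 2],
    [-2, -2, 0, 0, 0, 0, 0, 0, 0, 0, 0, 0, 0, 2, 0, 2, 0, -2, 2, -2, 0, 0, 0, 2],
    [-2, 2, 0, 0, 0, 0, 0, 0, 0, 0, 0, 0, 0, -2, 0, 2, 0, -2, 2, -2, 0, 0, 0, 2],
    [2, -2, 0, 0, 0, 0, 0, 0, 0, 0, 0, 0, 0, 2, 0, -2, 0, 2, -2, 2, 0, 0, 0, -2],
    [2, 2, 0, 0, 0, 0, 0, 0, 0, 0, 0, 0, 0, -2, 0, -2, 0, 2, -2, 2, 0, 0, 0, -2],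
    [-2, -2, 0, 0, 0, 0, 0, 0, 0, 0, 0, 0, 0, -2, 0, -2, 0, 2, -2, 2, 0, 0, 0, -2],
    [2, 2, 0, 0, 0, 0, 0, 0, 0, 0, 0, 0, 0, 2, 0, -2, 0, -2, -2, 2, 0, 0, 0, -2],
    [-2, -2, 0, 0, 0, 0, 0, 0, 0, 0, 0, 0, 0, 2, 0, -2, 0, -2, -2, 2, 0, 0, 0, -2],
    [-2, 2, 0, 0, 0, 0, 0, 0, 0, 0, 0, 0, 0, -2, 0, -2, 0, -2, -2, 2, 0, 0, 0, -2],
    [2, 0, 2, 0, 0, 0, 0, 0, 0, 0, 0, 0, 0, 2, -2, -2, 2, 2, 0, 0, 2, 0, 0, 0],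
    [-2, 0, 2, 0, 0, 0, 0, 0, 0, 0, 0, 0, 0, -2, -2, -2, 2, 2, 0, 0, 2, 0, 0, 0],
    [2, 0, -2, 0, 0, 0, 0, 0, 0, 0, 0, 0, 0, 2, 2, 2, -2, 2, 0, 0, 2, 0, 0, 0],
    [-2, 0, -2, 0, 0, 0, 0, 0, 0, 0, 0, 0, 0, -2, 2, 2, -2, 2, 0, 0, 2, 0, 0, 0],
    [-2, 0, 2, 0, 0, 0, 0, 0, 0, 0, 0, 0, 0, 2, -2, -2, 2, -2, 0, 0, 2, 0, 0, 0],
    [-2, 0, -2, 0, 0, 0, 0, 0, 0, 0, 0, 0, 0, 2, 2, 2, -2, -2, 0, 0, 2, 0, 0, 0],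
    [2, 0, 2, 0, 0, 0, 0, 0, 0, 0, 0, 0, 0, -2, -2, -2, 2, 2, 0, 0, -2, 0, 0, 0],
    [2, 0, -2, 0, 0, 0, 0, 0, 0, 0, 0, 0, 0, -2, 2, 2, -2, 2, 0, 0, -2, 0, 0, 0],
    [2, 0, 2, 0, 0, 0, 0, 0, 0, 0, 0, 0, 0, 2, -2, -2, 2, -2, 0, 0, -2, 0, 0, 0],
    [-2, 0, 2, 0, 0, 0, 0, 0, 0, 0, 0, 0, 0, -2, -2, -2, 2, -2, 0, 0, -2, 0, 0, 0],
    [2, 0, -2, 0, 0, 0, 0, 0, 0, 0, 0, 0, 0, 2, 2, 2, -2, -2, 0, 0, -2, 0, 0, 0],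
    [-2, 0, -2, 0, 0, 0, 0, 0, 0, 0, 0, 0, 0, -2, 2, 2, -2, -2, 0, 0, -2, 0, 0, 0],
    [0, 2, 2, 0, 0, 0, 0, 0, 0, 0, 0, 0, 0, 0, -2, 0, 2, 0, 2, -2, 2, 0, 0, 2],
    [0, -2, 2, 0, 0, 0, 0, 0, 0, 0, 0, 0, 0, 0, -2, 0, 2, 0, 2, -2, -2, 0, 0, 2],
    [0, 2, -2, 0, 0, 0, 0, 0, 0, 0, 0, 0, 0, 0, 2, 0, -2, 0, -2, 2, 2, 0, 0, -2],
    [0, -2, -2, 0, 0, 0, 0, 0, 0, 0, 0, 0, 0, 0, 2, 0, -2, 0, -2, 2, -2, 0, 0, -2],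
    [2, 0, 0, 2, 0, 0, 0, 0, 0, 0, 0, 0, 0, 2, -2, 0, 2, 0, 0, -2, 0, 2, 0, 2],
    [-2, 0, 0, 2, 0, 0, 0, 0, 0, 0, 0, 0, 0, -2, -2, 0, 2, 0, 0, -2, 0, 2, 0, 2],
    [2, 0, 0, -2, 0, 0, 0, 0, 0, 0, 0, 0, 0, 2, 2, 0, -2, 0, 0, 2, 0, -2, 0, -2],
    [-2, 0, 0, -2, 0, 0, 0, 0, 0, 0, 0, 0, 0, -2, 2, 0, -2, 0, 0, 2, 0, -2, 0, -2],
    [0, -2, 0, 2, 0, 0, 0, 0, 0, 0, 0, 0, 0, 0, -2, -2, 2, 2, -2, 0, 0, 2, 0, 0],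
    [0, 2, 0, 2, 0, 0, 0, 0, 0, 0, 0, 0, 0, 0, -2, -2, 2, -2, -2, 0, 0, 2, 0, 0],
    [0, -2, 0, -2, 0, 0, 0, 0, 0, 0, 0, 0, 0, 0, 2, 2, -2, 2, 2, 0, 0, -2, 0, 0],
    [0, 2, 0, -2, 0, 0, 0, 0, 0, 0, 0, 0, 0, 0, 2, 2, -2, -2, 2, 0, 0, -2, 0, 0],
    [0, 0, -2, 2, 0, 0, 0, 0, 0, 0, 0, 0, 0, 0, 0, 2, 0, 2, 0, -2, 2, 2, 0, 2],
    [0, 0, -2, 2, 0, 0, 0, 0, 0, 0, 0, 0, 0, 0, 0, 2, 0, -2, 0, -2, -2, 2, 0, 2],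
    [0, 0, 2, -2, 0, 0, 0, 0, 0, 0, 0, 0, 0, 0, 0, -2, 0, 2, 0, 2, 2, -2, 0, -2],
    [0, 0, 2, -2, 0, 0, 0, 0, 0, 0, 0, 0, 0, 0, 0, -2, 0, -2, 0, 2, -2, -2, 0, -2],
    [2, 2, -2, 2, 0, 0, 0, 0, 0, 0, 0, 0, 0, 2, 0, 0, 0, 0, -2, 0, 2, 2, 0, 0],
    [-2, -2, -2, 2, 0, 0, 0, 0, 0, 0, 0, 0, 0, 2, 0, 0, 0, 0, -2, 0, 2, 2, 0, 0],
    [-2, 2, -2, 2, 0, 0, 0, 0, 0, 0, 0, 0, 0, -2, 0, 0, 0, 0, -2, 0, 2, 2, 0, 0],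
    [2, -2, -2, 2, 0, 0, 0, 0, 0, 0, 0, 0, 0, 2, 0, 0, 0, 0, -2, 0, -2, 2, 0, 0],
    [2, 2, -2, 2, 0, 0, 0, 0, 0, 0, 0, 0, 0, -2, 0, 0, 0, 0, -2, 0, -2, 2, 0, 0],
    [-2, -2, -2, 2, 0, 0, 0, 0, 0, 0, 0, 0, 0, -2, 0, 0, 0, 0, -2, 0, -2, 2, 0, 0],
    [2, 2, 2, -2, 0, 0, 0, 0, 0, 0, 0, 0, 0, 2, 0, 0, 0, 0, 2, 0, 2, -2, 0, 0],
    [-2, -2, 2, -2, 0, 0, 0, 0, 0, 0, 0, 0, 0, 2, 0, 0, 0, 0, 2, 0, 2, -2, 0, 0],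
    [-2, 2, 2, -2, 0, 0, 0, 0, 0, 0, 0, 0, 0, -2, 0, 0, 0, 0, 2, 0, 2, -2, 0, 0],
    [2, -2, 2, -2, 0, 0, 0, 0, 0, 0, 0, 0, 0, 2, 0, 0, 0, 0, 2, 0, -2, -2, 0, 0],
    [2, 2, 2, -2, 0, 0, 0, 0, 0, 0, 0, 0, 0, -2, 0, 0, 0, 0, 2, 0, -2, -2, 0, 0],
    [-2, -2, 2, -2, 0, 0, 0, 0, 0, 0, 0, 0, 0, -2, 0, 0, 0, 0, 2, 0, -2, -2, 0, 0],
    [-2, 0, 0, 0, -2, -2, 0, 0, 0, 0, 0, 0, 0, 0, 0, 0, 0, 2, 0, -2, 0, 2, 2, 2],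
    [2, 0, 0, 0, 2, 2, 0, 0, 0, 0, 0, 0, 0, 0, 0, 0, 0, -2, 0, -2, 0, 2, 2, 2],
    [-2, 0, 0, 0, -2, -2, 0, 0, 0, 0, 0, 0, 0, 0, 0, 0, 0, 2, 0, 2, 0, -2, -2, -2],
    [2, 0, 0, 0, 2, 2, 0, 0, 0, 0, 0, 0, 0, 0, 0, 0, 0, -2, 0, 2, 0, -2, -2, -2],
    [0, 2, 0, 0, -2, -2, 0, 0, 0, 0, 0, 0, 0, 2, 0, -2, 0, 0, -2, 0, 0, 2, 2, 0],
    [0, -2, 0, 0, 2, 2, 0, 0, 0, 0, 0, 0, 0, -2, 0, -2, 0, 0, -2, 0, 0, 2, 2, 0],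
    [0, 2, 0, 0, -2, -2, 0, 0, 0, 0, 0, 0, 0, 2, 0, 2, 0, 0, 2, 0, 0, -2, -2, 0],
    [0, -2, 0, 0, 2, 2, 0, 0, 0, 0, 0, 0, 0, -2, 0, 2, 0, 0, 2, 0, 0, -2, -2, 0],
    [0, 0, 0, -2, -2, -2, 0, 0, 0, 0, 0, 0, 0, 2, 2, 0, -2, 2, 0, 0, 0, 0, 2, 0],
    [0, 0, 0, -2, 2, 2, 0, 0, 0, 0, 0, 0, 0, -2, 2, 0, -2, -2, 0, 0, 0, 0, 2, 0],
    [0, 0, 0, 2, -2, -2, 0, 0, 0, 0, 0, 0, 0, 2, -2, 0, 2, 2, 0, 0, 0, 0, -2, 0],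
    [0, 0, 0, 2, 2, 2, 0, 0, 0, 0, 0, 0, 0, -2, -2, 0, 2, -2, 0, 0, 0, 0, -2, 0],
    [2, 0, 2, -2, 2, 2, 0, 0, 0, 0, 0, 0, 0, 0, 0, -2, 0, 0, 0, 0, 2, 0, 2, 0],
    [-2, 0, 2, -2, -2, -2, 0, 0, 0, 0, 0, 0, 0, 0, 0, -2, 0, 0, 0, 0, -2, 0, 2, 0],
    [2, 0, -2, 2, 2, 2, 0, 0, 0, 0, 0, 0, 0, 0, 0, 2, 0, 0, 0, 0, 2, 0, -2, 0],
    [-2, 0, -2, 2, -2, -2, 0, 0, 0, 0, 0, 0, 0, 0, 0, 2, 0, 0, 0, 0, -2, 0, -2, 0],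
    [0, 0, 0, 0, 0, 0, -2, 0, 0, 0, 0, 0, 0, 0, 2, 2, 0, 0, 2, -2, 0, 2, 2, 2],
    [0, 0, 0, 0, 0, 0, 2, 0, 0, 0, 0, 0, 0, 0, -2, -2, 0, 0, -2, -2, 0, 2, 2, 2],
    [0, 0, 0, 0, 0, 0, 2, 0, 0, 0, 0, 0, 0, 0, -2, 2, 0, 0, 2, -2, 0, -2, -2, 2],
    [0, 0, 0, 0, 0, 0, -2, 0, 0, 0, 0, 0, 0, 0, 2, -2, 0, 0, -2, 2, 0, 2, 2, -2],
    [0, 0, 0, 0, 0, 0, -2, 0, 0, 0, 0, 0, 0, 0, 2, 2, 0, 0, 2, 2, 0, -2, -2, -2],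
    [0, 0, 0, 0, 0, 0, 2, 0, 0, 0, 0, 0, 0, 0, -2, -2, 0, 0, -2, 2, 0, -2, -2, -2],
    [2, -2, 0, 0, 0, 0, -2, 0, 0, 0, 0, 0, 0, 2, 2, 0, 0, 2, 0, 0, 0, 2, 2, 0],
    [2, 2, 0, 0, 0, 0, -2, 0, 0, 0, 0, 0, 0, -2, 2, 0, 0, 2, 0, 0, 0, 2, 2, 0],
    [-2, -2, 0, 0, 0, 0, -2, 0, 0, 0, 0, 0, 0, -2, 2, 0, 0, 2, 0, 0, 0, 2, 2, 0],
    [2, 2, 0, 0, 0, 0, -2, 0, 0, 0, 0, 0, 0, 2, 2, 0, 0, -2, 0, 0, 0, 2, 2, 0],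
    [-2, -2, 0, 0, 0, 0, -2, 0, 0, 0, 0, 0, 0, 2, 2, 0, 0, -2, 0, 0, 0, 2, 2, 0],
    [-2, 2, 0, 0, 0, 0, -2, 0, 0, 0, 0, 0, 0, -2, 2, 0, 0, -2, 0, 0, 0, 2, 2, 0],
    [2, -2, 0, 0, 0, 0, 2, 0, 0, 0, 0, 0, 0, 2, -2, 0, 0, 2, 0, 0, 0, -2, -2, 0],
    [2, 2, 0, 0, 0, 0, 2, 0, 0, 0, 0, 0, 0, -2, -2, 0, 0, 2, 0, 0, 0, -2, -2, 0],
    [-2, -2, 0, 0, 0, 0, 2, 0, 0, 0, 0, 0, 0, -2, -2, 0, 0, 2, 0, 0, 0, -2, -2, 0],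
    [2, 2, 0, 0, 0, 0, 2, 0, 0, 0, 0, 0, 0, 2, -2, 0, 0, -2, 0, 0, 0, -2, -2, 0],
    [-2, -2, 0, 0, 0, 0, 2, 0, 0, 0, 0, 0, 0, 2, -2, 0, 0, -2, 0, 0, 0, -2, -2, 0],
    [-2, 2, 0, 0, 0, 0, 2, 0, 0, 0, 0, 0, 0, -2, -2, 0, 0, -2, 0, 0, 0, -2, -2, 0],
    [0, 2, 2, 0, 0, 0, -2, 0, 0, 0, 0, 0, 0, 0, 0, -2, 2, 0, 0, 0, 2, 2, 2, 0],
    [0, -2, 2, 0, 0, 0, -2, 0, 0, 0, 0, 0, 0, 0, 0, -2, 2, 0, 0, 0, -2, 2, 2, 0],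
    [0, 2, -2, 0, 0, 0, 2, 0, 0, 0, 0, 0, 0, 0, 0, 2, -2, 0, 0, 0, 2, -2, -2, 0],
    [0, -2, -2, 0, 0, 0, 2, 0, 0, 0, 0, 0, 0, 0, 0, 2, -2, 0, 0, 0, -2, -2, -2, 0],
    [2, 0, 0, -2, 0, 0, 2, 0, 0, 0, 0, 0, 0, 2, 0, -2, -2, 0, -2, 0, 0, 0, 2, 0],
    [-2, 0, 0, -2, 0, 0, 2, 0, 0, 0, 0, 0, 0, -2, 0, -2, -2, 0, -2, 0, 0, 0, 2, 0],
    [2, 0, 0, 2, 0, 0, -2, 0, 0, 0, 0, 0, 0, 2, 0, 2, 2, 0, 2, 0, 0, 0, -2, 0],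
    [-2, 0, 0, 2, 0, 0, -2, 0, 0, 0, 0, 0, 0, -2, 0, 2, 2, 0, 2, 0, 0, 0, -2, 0],
    [0, -2, 0, -2, 0, 0, 2, 0, 0, 0, 0, 0, 0, 0, 0, 0, -2, 2, 0, -2, 0, 0, 2, 2],
    [0, 2, 0, -2, 0, 0, 2, 0, 0, 0, 0, 0, 0, 0, 0, 0, -2, -2, 0, -2, 0, 0, 2, 2],
    [0, -2, 0, 2, 0, 0, -2, 0, 0, 0, 0, 0, 0, 0, 0, 0, 2, 2, 0, 2, 0, 0, -2, -2],
    [0, 2, 0, 2, 0, 0, -2, 0, 0, 0, 0, 0, 0, 0, 0, 0, 2, -2, 0, 2, 0, 0, -2, -2],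
    [0, 0, 2, -2, 0, 0, -2, 0, 0, 0, 0, 0, 0, 0, 2, 0, 0, 2, 2, 0, 2, 0, 2, 0],
    [0, 0, 2, -2, 0, 0, -2, 0, 0, 0, 0, 0, 0, 0, 2, 0, 0, -2, 2, 0, -2, 0, 2, 0],
    [0, 0, -2, 2, 0, 0, 2, 0, 0, 0, 0, 0, 0, 0, -2, 0, 0, 2, -2, 0, 2, 0, -2, 0],
    [0, 0, -2, 2, 0, 0, 2, 0, 0, 0, 0, 0, 0, 0, -2, 0, 0, -2, -2, 0, -2, 0, -2, 0],
    [-2, 0, 0, 0, -2, -2, -2, 0, 0, 0, 0, 0, 0, 0, 2, 2, 0, 2, 2, 0, 0, 0, 0, 0],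
    [2, 0, 0, 0, 2, 2, -2, 0, 0, 0, 0, 0, 0, 0, 2, 2, 0, -2, 2, 0, 0, 0, 0, 0],
    [-2, 0, 0, 0, -2, -2, 2, 0, 0, 0, 0, 0, 0, 0, -2, -2, 0, 2, -2, 0, 0, 0, 0, 0],
    [2, 0, 0, 0, 2, 2, 2, 0, 0, 0, 0, 0, 0, 0, -2, -2, 0, -2, -2, 0, 0, 0, 0, 0],
    [0, 2, 0, 0, -2, -2, 2, 0, 0, 0, 0, 0, 0, 2, -2, 0, 0, 0, 0, -2, 0, 0, 0, 2],
    [0, -2, 0, 0, 2, 2, 2, 0, 0, 0, 0, 0, 0, -2, -2, 0, 0, 0, 0, -2, 0, 0, 0, 2],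
    [0, 2, 0, 0, -2, -2, -2, 0, 0, 0, 0, 0, 0, 2, 2, 0, 0, 0, 0, 2, 0, 0, 0, -2],
    [0, -2, 0, 0, 2, 2, -2, 0, 0, 0, 0, 0, 0, -2, 2, 0, 0, 0, 0, 2, 0, 0, 0, -2],
    [0, 0, 2, 0, 2, 2, -2, 0, 0, 0, 0, 0, 0, -2, 0, 0, 2, 0, 2, 0, 2, 0, 0, 0],
    [0, 0, -2, 0, 2, 2, 2, 0, 0, 0, 0, 0, 0, -2, 0, 0, -2, 0, -2, 0, 2, 0, 0, 0],
    [0, 0, 2, 0, -2, -2, -2, 0, 0, 0, 0, 0, 0, 2, 0, 0, 2, 0, 2, 0, -2, 0, 0, 0],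
    [0, 0, -2, 0, -2, -2, 2, 0, 0, 0, 0, 0, 0, 2, 0, 0, -2, 0, -2, 0, -2, 0, 0, 0],
    [2, -2, 0, 2, 2, 2, -2, 0, 0, 0, 0, 0, 0, 0, 0, 0, 2, 0, 0, 0, 0, 2, 0, 0],
    [-2, 2, 0, 2, -2, -2, -2, 0, 0, 0, 0, 0, 0, 0, 0, 0, 2, 0, 0, 0, 0, 2, 0, 0],
    [2, -2, 0, -2, 2, 2, 2, 0, 0, 0, 0, 0, 0, 0, 0, 0, -2, 0, 0, 0, 0, -2, 0, 0],
    [-2, 2, 0, -2, -2, -2, 2, 0, 0, 0, 0, 0, 0, 0, 0, 0, -2, 0, 0, 0, 0, -2, 0, 0],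
    [-2, 0, 0, 0, 0, 0, 0, -2, 0, 0, 0, 0, 0, 0, 0, 2, -2, 0, 0, -2, 2, 0, 2, 2],
    [2, 0, 0, 0, 0, 0, 0, -2, 0, 0, 0, 0, 0, 0, 0, 2, -2, 0, 0, -2, -2, 0, 2, 2],
    [-2, 0, 0, 0, 0, 0, 0, 2, 0, 0, 0, 0, 0, 0, 0, -2, 2, 0, 0, 2, 2, 0, -2, -2],
    [2, 0, 0, 0, 0, 0, 0, 2, 0, 0, 0, 0, 0, 0, 0, -2, 2, 0, 0, 2, -2, 0, -2, -2],
    [0, -2, 0, 0, 0, 0, 0, -2, 0, 0, 0, 0, 0, 2, 0, 0, -2, 2, -2, 0, 2, 0, 2, 0],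
    [0, 2, 0, 0, 0, 0, 0, -2, 0, 0, 0, 0, 0, -2, 0, 0, -2, 2, -2, 0, 2, 0, 2, 0],
    [0, 2, 0, 0, 0, 0, 0, -2, 0, 0, 0, 0, 0, 2, 0, 0, -2, -2, -2, 0, 2, 0, 2, 0],
    [0, -2, 0, 0, 0, 0, 0, -2, 0, 0, 0, 0, 0, -2, 0, 0, -2, 2, -2, 0, -2, 0, 2, 0],
    [0, -2, 0, 0, 0, 0, 0, -2, 0, 0, 0, 0, 0, 2, 0, 0, -2, -2, -2, 0, -2, 0, 2, 0],
    [0, 2, 0, 0, 0, 0, 0, -2, 0, 0, 0, 0, 0, -2, 0, 0, -2, -2, -2, 0, -2, 0, 2, 0],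
    [0, -2, 0, 0, 0, 0, 0, 2, 0, 0, 0, 0, 0, 2, 0, 0, 2, 2, 2, 0, 2, 0, -2, 0],
    [0, 2, 0, 0, 0, 0, 0, 2, 0, 0, 0, 0, 0, -2, 0, 0, 2, 2, 2, 0, 2, 0, -2, 0],
    [0, 2, 0, 0, 0, 0, 0, 2, 0, 0, 0, 0, 0, 2, 0, 0, 2, -2, 2, 0, 2, 0, -2, 0],
    [0, -2, 0, 0, 0, 0, 0, 2, 0, 0, 0, 0, 0, -2, 0, 0, 2, 2, 2, 0, -2, 0, -2, 0],
    [0, -2, 0, 0, 0, 0, 0, 2, 0, 0, 0, 0, 0, 2, 0, 0, 2, -2, 2, 0, -2, 0, -2, 0],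
    [0, 2, 0, 0, 0, 0, 0, 2, 0, 0, 0, 0, 0, -2, 0, 0, 2, -2, 2, 0, -2, 0, -2, 0],
    [0, 0, 2, 0, 0, 0, 0, -2, 0, 0, 0, 0, 0, -2, -2, 0, 0, 2, 0, -2, 0, 0, 2, 2],
    [0, 0, 2, 0, 0, 0, 0, -2, 0, 0, 0, 0, 0, 2, -2, 0, 0, -2, 0, -2, 0, 0, 2, 2],
    [0, 0, -2, 0, 0, 0, 0, 2, 0, 0, 0, 0, 0, -2, 2, 0, 0, 2, 0, 2, 0, 0, -2, -2],
    [0, 0, -2, 0, 0, 0, 0, 2, 0, 0, 0, 0, 0, 2, 2, 0, 0, -2, 0, 2, 0, 0, -2, -2],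
    [2, 2, 2, 0, 0, 0, 0, -2, 0, 0, 0, 0, 0, 0, -2, -2, 0, 0, -2, 0, 0, 0, 2, 0],
    [-2, -2, 2, 0, 0, 0, 0, -2, 0, 0, 0, 0, 0, 0, -2, -2, 0, 0, -2, 0, 0, 0, 2, 0],
    [2, 2, -2, 0, 0, 0, 0, 2, 0, 0, 0, 0, 0, 0, 2, 2, 0, 0, 2, 0, 0, 0, -2, 0],
    [-2, -2, -2, 0, 0, 0, 0, 2, 0, 0, 0, 0, 0, 0, 2, 2, 0, 0, 2, 0, 0, 0, -2, 0],
    [0, 0, 0, -2, 0, 0, 0, 2, 0, 0, 0, 0, 0, 2, 2, -2, 0, 0, 0, 0, 2, 2, 2, 0],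
    [0, 0, 0, -2, 0, 0, 0, 2, 0, 0, 0, 0, 0, -2, 2, -2, 0, 0, 0, 0, -2, 2, 2, 0],
    [0, 0, 0, 2, 0, 0, 0, -2, 0, 0, 0, 0, 0, 2, -2, 2, 0, 0, 0, 0, 2, -2, -2, 0],
    [0, 0, 0, 2, 0, 0, 0, -2, 0, 0, 0, 0, 0, -2, -2, 2, 0, 0, 0, 0, -2, -2, -2, 0],
    [2, 0, 2, -2, 0, 0, 0, -2, 0, 0, 0, 0, 0, 0, 0, 0, -2, 2, 0, 0, 0, -2, 2, 0],
    [-2, 0, 2, -2, 0, 0, 0, -2, 0, 0, 0, 0, 0, 0, 0, 0, -2, -2, 0, 0, 0, -2, 2, 0],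
    [2, 0, -2, 2, 0, 0, 0, 2, 0, 0, 0, 0, 0, 0, 0, 0, 2, 2, 0, 0, 0, 2, -2, 0],
    [-2, 0, -2, 2, 0, 0, 0, 2, 0, 0, 0, 0, 0, 0, 0, 0, 2, -2, 0, 0, 0, 2, -2, 0],
    [0, 0, 0, 0, 2, 2, 0, 2, 0, 0, 0, 0, 0, 0, 0, -2, 2, -2, 0, 0, 2, 2, 0, 0],
    [0, 0, 0, 0, -2, -2, 0, 2, 0, 0, 0, 0, 0, 0, 0, -2, 2, 2, 0, 0, -2, 2, 0, 0],
    [0, 0, 0, 0, 2, 2, 0, -2, 0, 0, 0, 0, 0, 0, 0, 2, -2, -2, 0, 0, 2, -2, 0, 0],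
    [0, 0, 0, 0, -2, -2, 0, -2, 0, 0, 0, 0, 0, 0, 0, 2, -2, 2, 0, 0, -2, -2, 0, 0],
    [-2, 0, -2, 0, -2, -2, 0, 2, 0, 0, 0, 0, 0, 2, 2, 0, 0, 0, 0, 0, 0, 2, 0, 0],
    [2, 0, -2, 0, 2, 2, 0, 2, 0, 0, 0, 0, 0, -2, 2, 0, 0, 0, 0, 0, 0, 2, 0, 0],
    [-2, 0, 2, 0, -2, -2, 0, -2, 0, 0, 0, 0, 0, 2, -2, 0, 0, 0, 0, 0, 0, -2, 0, 0],
    [2, 0, 2, 0, 2, 2, 0, -2, 0, 0, 0, 0, 0, -2, -2, 0, 0, 0, 0, 0, 0, -2, 0, 0],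
    [0, -2, 0, -2, 2, 2, 0, 2, 0, 0, 0, 0, 0, 0, 2, 0, 0, 0, 2, 0, 2, 0, 0, 0],
    [0, -2, 0, 2, 2, 2, 0, -2, 0, 0, 0, 0, 0, 0, -2, 0, 0, 0, -2, 0, 2, 0, 0, 0],
    [0, 2, 0, -2, -2, -2, 0, 2, 0, 0, 0, 0, 0, 0, 2, 0, 0, 0, 2, 0, -2, 0, 0, 0],
    [0, 2, 0, 2, -2, -2, 0, -2, 0, 0, 0, 0, 0, 0, -2, 0, 0, 0, -2, 0, -2, 0, 0, 0],
    [-2, 0, 0, 0, 0, 0, -2, 2, 0, 0, 0, 0, 0, 0, 2, 0, 2, 0, 2, 0, 2, 2, 0, 0],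
    [2, 0, 0, 0, 0, 0, -2, 2, 0, 0, 0, 0, 0, 0, 2, 0, 2, 0, 2, 0, -2, 2, 0, 0],
    [-2, 0, 0, 0, 0, 0, 2, -2, 0, 0, 0, 0, 0, 0, -2, 0, -2, 0, -2, 0, 2, -2, 0, 0],
    [2, 0, 0, 0, 0, 0, 2, -2, 0, 0, 0, 0, 0, 0, -2, 0, -2, 0, -2, 0, -2, -2, 0, 0],
    [0, 0, -2, 0, 0, 0, 2, 2, 0, 0, 0, 0, 0, -2, 0, -2, 0, 2, -2, 0, 0, 2, 0, 0],
    [0, 0, -2, 0, 0, 0, 2, 2, 0, 0, 0, 0, 0, 2, 0, -2, 0, -2, -2, 0, 0, 2, 0, 0],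
    [0, 0, 2, 0, 0, 0, -2, -2, 0, 0, 0, 0, 0, -2, 0, 2, 0, 2, 2, 0, 0, -2, 0, 0],
    [0, 0, 2, 0, 0, 0, -2, -2, 0, 0, 0, 0, 0, 2, 0, 2, 0, -2, 2, 0, 0, -2, 0, 0],
    [2, 2, -2, 0, 0, 0, 2, 2, 0, 0, 0, 0, 0, 0, 0, 0, 0, 0, 0, -2, 0, 2, 0, 2],
    [-2, -2, -2, 0, 0, 0, 2, 2, 0, 0, 0, 0, 0, 0, 0, 0, 0, 0, 0, -2, 0, 2, 0, 2],
    [2, 2, 2, 0, 0, 0, -2, -2, 0, 0, 0, 0, 0, 0, 0, 0, 0, 0, 0, 2, 0, -2, 0, -2],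
    [-2, -2, 2, 0, 0, 0, -2, -2, 0, 0, 0, 0, 0, 0, 0, 0, 0, 0, 0, 2, 0, -2, 0, -2],
    [0, 0, 0, -2, 0, 0, 2, 2, 0, 0, 0, 0, 0, 2, 0, 0, 0, 0, 2, -2, 2, 0, 0, 2],
    [0, 0, 0, -2, 0, 0, 2, 2, 0, 0, 0, 0, 0, -2, 0, 0, 0, 0, 2, -2, -2, 0, 0, 2],
    [0, 0, 0, 2, 0, 0, -2, -2, 0, 0, 0, 0, 0, 2, 0, 0, 0, 0, -2, 2, 2, 0, 0, -2],
    [0, 0, 0, 2, 0, 0, -2, -2, 0, 0, 0, 0, 0, -2, 0, 0, 0, 0, -2, 2, -2, 0, 0, -2],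
    [2, 2, 0, 2, 0, 0, -2, -2, 0, 0, 0, 0, 0, 0, 0, 2, 0, 2, 0, 0, 2, 0, 0, 0],
    [-2, -2, 0, 2, 0, 0, -2, -2, 0, 0, 0, 0, 0, 0, 0, 2, 0, 2, 0, 0, 2, 0, 0, 0],
    [2, 2, 0, -2, 0, 0, 2, 2, 0, 0, 0, 0, 0, 0, 0, -2, 0, 2, 0, 0, 2, 0, 0, 0],
    [-2, -2, 0, -2, 0, 0, 2, 2, 0, 0, 0, 0, 0, 0, 0, -2, 0, 2, 0, 0, 2, 0, 0, 0],
    [-2, 2, 0, 2, 0, 0, -2, -2, 0, 0, 0, 0, 0, 0, 0, 2, 0, -2, 0, 0, 2, 0, 0, 0],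
    [-2, 2, 0, -2, 0, 0, 2, 2, 0, 0, 0, 0, 0, 0, 0, -2, 0, -2, 0, 0, 2, 0, 0, 0],
    [2, -2, 0, 2, 0, 0, -2, -2, 0, 0, 0, 0, 0, 0, 0, 2, 0, 2, 0, 0, -2, 0, 0, 0],
    [2, -2, 0, -2, 0, 0, 2, 2, 0, 0, 0, 0, 0, 0, 0, -2, 0, 2, 0, 0, -2, 0, 0, 0],
    [2, 2, 0, 2, 0, 0, -2, -2, 0, 0, 0, 0, 0, 0, 0, 2, 0, -2, 0, 0, -2, 0, 0, 0],
    [-2, -2, 0, 2, 0, 0, -2, -2, 0, 0, 0, 0, 0, 0, 0, 2, 0, -2, 0, 0, -2, 0, 0, 0],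
    [2, 2, 0, -2, 0, 0, 2, 2, 0, 0, 0, 0, 0, 0, 0, -2, 0, -2, 0, 0, -2, 0, 0, 0],
    [-2, -2, 0, -2, 0, 0, 2, 2, 0, 0, 0, 0, 0, 0, 0, -2, 0, -2, 0, 0, -2, 0, 0, 0],
    [0, -2, 2, 2, 0, 0, -2, -2, 0, 0, 0, 0, 0, 2, -2, 0, 2, 0, 0, 0, 0, 0, 0, 0],
    [0, 2, 2, 2, 0, 0, -2, -2, 0, 0, 0, 0, 0, -2, -2, 0, 2, 0, 0, 0, 0, 0, 0, 0],
    [0, -2, -2, -2, 0, 0, 2, 2, 0, 0, 0, 0, 0, 2, 2, 0, -2, 0, 0, 0, 0, 0, 0, 0],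
    [0, 2, -2, -2, 0, 0, 2, 2, 0, 0, 0, 0, 0, -2, 2, 0, -2, 0, 0, 0, 0, 0, 0, 0],
    [0, 2, 2, 0, -2, -2, -2, -2, 0, 0, 0, 0, 0, 0, 0, 0, 0, 2, 0, 0, 0, 0, 2, 0],
    [0, -2, 2, 0, 2, 2, -2, -2, 0, 0, 0, 0, 0, 0, 0, 0, 0, -2, 0, 0, 0, 0, 2, 0],
    [0, 2, -2, 0, -2, -2, 2, 2, 0, 0, 0, 0, 0, 0, 0, 0, 0, 2, 0, 0, 0, 0, -2, 0],
    [0, -2, -2, 0, 2, 2, 2, 2, 0, 0, 0, 0, 0, 0, 0, 0, 0, -2, 0, 0, 0, 0, -2, 0],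
    [0, 0, 0, 0, 0, 0, 0, 0, 2, 0, 0, 0, 0, 2, 0, -2, 2, 0, -2, 2, 2, 2, 0, 0],
    [0, 0, 0, 0, 0, 0, 0, 0, 2, 0, 0, 0, 0, -2, 0, -2, 2, 0, -2, 2, -2, 2, 0, 0],
    [0, 0, 0, 0, 0, 0, 0, 0, -2, 0, 0, 0, 0, 2, 0, 2, -2, 0, 2, -2, 2, -2, 0, 0],
    [0, 0, 0, 0, 0, 0, 0, 0, -2, 0, 0, 0, 0, -2, 0, 2, -2, 0, 2, -2, -2, -2, 0, 0],
    [2, 2, 0, 0, 0, 0, 0, 0, 2, 0, 0, 0, 0, 0, 0, 0, 2, 2, 0, 0, 2, 2, 0, 2],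
    [-2, -2, 0, 0, 0, 0, 0, 0, 2, 0, 0, 0, 0, 0, 0, 0, 2, 2, 0, 0, 2, 2, 0, 2],
    [-2, 2, 0, 0, 0, 0, 0, 0, 2, 0, 0, 0, 0, 0, 0, 0, 2, -2, 0, 0, 2, 2, 0, 2],
    [2, -2, 0, 0, 0, 0, 0, 0, 2, 0, 0, 0, 0, 0, 0, 0, 2, 2, 0, 0, -2, 2, 0, 2],
    [2, 2, 0, 0, 0, 0, 0, 0, 2, 0, 0, 0, 0, 0, 0, 0, 2, -2, 0, 0, -2, 2, 0, 2],
    [-2, -2, 0, 0, 0, 0, 0, 0, 2, 0, 0, 0, 0, 0, 0, 0, 2, -2, 0, 0, -2, 2, 0, 2],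
    [2, 2, 0, 0, 0, 0, 0, 0, -2, 0, 0, 0, 0, 0, 0, 0, -2, 2, 0, 0, 2, -2, 0, -2],
    [-2, -2, 0, 0, 0, 0, 0, 0, -2, 0, 0, 0, 0, 0, 0, 0, -2, 2, 0, 0, 2, -2, 0, -2],
    [-2, 2, 0, 0, 0, 0, 0, 0, -2, 0, 0, 0, 0, 0, 0, 0, -2, -2, 0, 0, 2, -2, 0, -2],
    [2, -2, 0, 0, 0, 0, 0, 0, -2, 0, 0, 0, 0, 0, 0, 0, -2, 2, 0, 0, -2, -2, 0, -2],
    [2, 2, 0, 0, 0, 0, 0, 0, -2, 0, 0, 0, 0, 0, 0, 0, -2, -2, 0, 0, -2, -2, 0, -2],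
    [-2, -2, 0, 0, 0, 0, 0, 0, -2, 0, 0, 0, 0, 0, 0, 0, -2, -2, 0, 0, -2, -2, 0, -2],
    [2, 0, -2, 0, 0, 0, 0, 0, 2, 0, 0, 0, 0, 0, 2, 0, 0, 2, -2, 2, 0, 2, 0, 0]]

end CfsgLib.SuzCo0.Cent
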